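import Mathlib

/-!
The Coxeter trick, abstract form: the elements of `U n` are `U`-conjugate to elements of a transversal `D`.
-/

set_option autoImplicit false

namespace Cfsg.Agent.H346.DP

open scoped Pointwise

variable {Y : Type*} [Group Y] [Finite Y]

/-- `U n U` is the union of the `U`-conjugates of the elements of `D`. -/
theorem exists_conj_of_power {U V : Subgroup Y} (hUV : U ⊓ V = ⊥) {n : Y} {D : Set Y} {k : ℕ}
    (hD : ∀ d ∈ D, ∃ a ∈ U, d = a * n)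
    (hcov : ∀ u ∈ U, ∃ d ∈ D, ∃ u' ∈ U, u * n = d * u')
    (hpow : ∀ d ∈ D, ∃ b ∈ U, d ^ k = b * n ^ k)
    (hn : ∀ u ∈ U, n ^ k * u * (n ^ k)⁻¹ ∈ V) {u : Y} (hu : u ∈ U) :
    ∃ x ∈ U, ∃ d ∈ D, u * n = x * d * x⁻¹ := by
  classical
  -- the double coset
  let C : Set Y := {g | ∃ a ∈ U, ∃ b ∈ U, g = a * n * b}
  let f : U × D → C := fun q => ⟨q.1 * q.2 * (q.1 : Y)⁻¹, by
    obtain ⟨a, ha, e⟩ := hD q.2 q.2.2
    exact ⟨q.1 * a, mul_mem q.1.2 ha, (q.1 : Y)⁻¹, inv_mem q.1.2, by rw [e]; group⟩⟩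
  have hf : Function.Injective f := by
    rintro ⟨⟨x, hx⟩, ⟨d, hd⟩⟩ ⟨⟨x', hx'⟩, ⟨d', hd'⟩⟩ hxy
    have h1 : x * d * x⁻¹ = x' * d' * x'⁻¹ := congrArg Subtype.val hxy
    have h2 : (x'⁻¹ * x) * d * (x'⁻¹ * x)⁻¹ = d' := by
      calc (x'⁻¹ * x) * d * (x'⁻¹ * x)⁻¹ = x'⁻¹ * (x * d * x⁻¹) * x' := by group
        _ = d' := by rw [h1]; group
    have h3 : (x'⁻¹ * x) * d ^ k * (x'⁻¹ * x)⁻¹ = d' ^ k := by
      rw [← h2, conj_pow]
    obtain ⟨b, hb, e⟩ := hpow d hd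
    obtain ⟨b', hb', e'⟩ := hpow d' hd'
    have hy : x'⁻¹ * x ∈ U := U.mul_mem (U.inv_mem hx') hx
    rw [e, e'] at h3
    have h4 : n ^ k * (x'⁻¹ * x) * (n ^ k)⁻¹ = b'⁻¹ * (x'⁻¹ * x) * b := by
      have h5 : (x'⁻¹ * x) * b * n ^ k = b' * n ^ k * (x'⁻¹ * x) := by
        rw [← h3]; group
      calc n ^ k * (x'⁻¹ * x) * (n ^ k)⁻¹ = b'⁻¹ * (b' * n ^ k * (x'⁻¹ * x)) * (n ^ k)⁻¹ := by group
        _ = b'⁻¹ * (x'⁻¹ * x) * b := by rw [← h5]; group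
    have h6 : n ^ k * (x'⁻¹ * x) * (n ^ k)⁻¹ ∈ U ⊓ V :=
      ⟨by rw [h4]; exact U.mul_mem (U.mul_mem (U.inv_mem hb') hy) hb, hn _ hy⟩
    rw [hUV, Subgroup.mem_bot] at h6
    have h7 : x'⁻¹ * x = 1 := by
      calc x'⁻¹ * x = (n ^ k)⁻¹ * (n ^ k * (x'⁻¹ * x) * (n ^ k)⁻¹) * n ^ k := by group
        _ = 1 := by rw [h6]; group
    have h8 : x = x' := by rw [inv_mul_eq_one] at h7; exact h7.symm
    subst h8
    have h9 : d = d' := by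
      have := mul_right_cancel h1
      exact mul_left_cancel this
    subst h9
    rfl
  let g : D × U → C := fun q => ⟨q.1 * q.2, by
    obtain ⟨a, ha, e⟩ := hD q.1 q.1.2
    exact ⟨a, ha, q.2, q.2.2, by rw [e]⟩⟩
  have hg : Function.Surjective g := by
    rintro ⟨_, a, ha, b, hb, rfl⟩
    obtain ⟨d, hd, u', hu', e⟩ := hcov a ha
    refine ⟨(⟨d, hd⟩, ⟨u' * b, mul_mem hu' hb⟩), Subtype.ext ?_⟩
    change d * (u' * b) = a * n * b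
    rw [e]; group
  have hcard : Nat.card C ≤ Nat.card (U × D) := by
    have h1 := Nat.card_le_card_of_surjective g hg
    rw [Nat.card_prod] at h1 ⊢
    rwa [mul_comm]
  have hbij := hf.bijective_of_nat_card_le hcard
  obtain ⟨⟨⟨x, hx⟩, ⟨d, hd⟩⟩, e⟩ := hbij.2 ⟨u * n, u, hu, 1, one_mem _, by group⟩
  exact ⟨x, hx, d, hd, (congrArg Subtype.val e).symm⟩

end Cfsg.Agent.H346.DP
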