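import Mathlib
import Cfsg.Agent.H162.GaussDec
import Cfsg.Agent.KFacts.RgdOpp
import Cfsg.Agent.H514.DP.Core
import Cfsg.Agent.H346.DP.CoxAbs

/-!
The Coxeter trick for root group data (S2454).

* `DS X k ω` : the products of elements of `X_i k_i` along the word `ω`;
* `exists_conj_DS` : if a power of `ω` is a reduced word of the longest element then every element of `U k_ω` is
  conjugate to an element of `DS X k ω`;
* `pe_of_nodes` : if all `x_i(t) n_i` are products of `m i` `p`-elements then every element outside the core of `B` is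
  a product of `2 ∑ m i` `p`-elements.
-/

set_option autoImplicit false
set_option linter.unusedSectionVars false

namespace Cfsg.Agent.H346.DP

open CoxeterSystem Cfsg.Agent.ChevalleyStructure.CoxeterGeom Cfsg.Agent.Tits.Roots Cfsg.Agent.Tits.Core
  Cfsg.Agent.Tits.RootComb Cfsg.Agent.Tits.Exchange Cfsg.Agent.Nodes.Comb Cfsg.Agent.Nodes.Reps
  Cfsg.Agent.Nodes.BNOf Cfsg.Agent.Nodes.StabComb
  Cfsg.Agent.Nodes.RGDLib Cfsg.Agent.Nodes.Bruhat Cfsg.Agent.Nodes.OppDec
open Cfsg.Agent.OddHalf.NI.Mult (Coord rp_nn nn_mul_lo)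
open Cfsg.Agent.H514.DP (PE IsPE)

variable {I W Y : Type*} [Fintype I] [DecidableEq I] [Group W] [Group Y] {M : CoxeterMatrix I}
  {cs : CoxeterSystem M W} {A : I → I → ℤ} {h : IsCartan M A} {r : ℕ} {T : Subgroup Y} {n : I → Y}
  {X : (I → ℤ) → Subgroup Y}

/-- the product of the `k i` along a word -/
def wp (k : I → Y) (ω : List I) : Y := (ω.map k).prod

omit [Fintype I] [DecidableEq I] in
theorem wp_cons (k : I → Y) (i : I) (ω : List I) : wp k (i :: ω) = k i * wp k ω := by
  unfold wp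
  rw [List.map_cons, List.prod_cons]

omit [Fintype I] [DecidableEq I] in
theorem wp_append (k : I → Y) (ω η : List I) : wp k (ω ++ η) = wp k ω * wp k η := by
  unfold wp
  rw [List.map_append, List.prod_append]

omit [Fintype I] [DecidableEq I] in
theorem wp_flatten (k : I → Y) (ω : List I) (N : ℕ) : wp k (List.replicate N ω).flatten = wp k ω ^ N := by
  induction N with
  | zero => rw [List.replicate_zero, List.flatten_nil, pow_zero]; rfl
  | succ N ih => rw [List.replicate_succ, List.flatten_cons, wp_append, ih, pow_succ']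

/-- the products of elements of `X_i k_i` along a word -/
def DS (X : (I → ℤ) → Subgroup Y) (k : I → Y) : List I → Set Y
  | [] => {1}
  | i :: ω => {g | ∃ x ∈ X (sr i), ∃ d ∈ DS X k ω, g = x * k i * d}

omit [Fintype I] in
theorem mem_DS_cons {k : I → Y} {i : I} {ω : List I} {g : Y} :
    g ∈ DS X k (i :: ω) ↔ ∃ x ∈ X (sr i), ∃ d ∈ DS X k ω, g = x * k i * d := Iff.rfl

omit [Fintype I] in
theorem mem_DS_nil {k : I → Y} {g : Y} : g ∈ DS X k [] ↔ g = 1 := Iff.rfl

omit [Fintype I] in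
theorem mul_mem_DS {k : I → Y} {ω η : List I} {d e : Y} (hd : d ∈ DS X k ω) (he : e ∈ DS X k η) :
    d * e ∈ DS X k (ω ++ η) := by
  induction ω generalizing d with
  | nil => rw [mem_DS_nil.1 hd, one_mul]; exact he
  | cons i ω ih =>
    obtain ⟨x, hx, d', hd', rfl⟩ := hd
    exact ⟨x, hx, d' * e, ih hd', by group⟩

omit [Fintype I] in
theorem pow_mem_DS {k : I → Y} {ω : List I} {d : Y} (hd : d ∈ DS X k ω) (N : ℕ) :
    d ^ N ∈ DS X k (List.replicate N ω).flatten := by
  induction N with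
  | zero => rw [pow_zero, List.replicate_zero, List.flatten_nil]; exact rfl
  | succ N ih => rw [pow_succ', List.replicate_succ, List.flatten_cons]; exact mul_mem_DS hd ih

omit [Fintype I] in
theorem pe_DS {k : I → Y} {p : ℕ} {m : I → ℕ} (hm : ∀ i, ∀ x ∈ X (sr i), PE p (m i) (x * k i)) {ω : List I} {d : Y}
    (hd : d ∈ DS X k ω) : PE p (ω.map m).sum d := by
  induction ω generalizing d with
  | nil => rw [mem_DS_nil.1 hd]; rfl
  | cons i ω ih =>
    obtain ⟨x, hx, d', hd', rfl⟩ := hd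
    rw [List.map_cons, List.sum_cons]
    exact (hm i x hx).mul (ih hd')

section

variable (R : RGD cs h r T n X) {k : I → Y}

include R

theorem rp_wp (hk : ∀ i, Rp cs R.nsys (cs.simple i) (k i)) (ω : List I) :
    Rp cs R.nsys (cs.wordProd ω) (wp k ω) := by
  induction ω with
  | nil => rw [wordProd_nil]; exact rp_one
  | cons i ω ih => rw [wordProd_cons, wp_cons]; exact (hk i).mul ih

/-- the cover of `U k_ω` -/
theorem cover (hk : ∀ i, Rp cs R.nsys (cs.simple i) (k i)) (ω : List I) :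
    ∀ u ∈ RGD.Sup X (RGD.Pos cs h), ∃ d ∈ DS X k ω, ∃ u' ∈ RGD.Sup X (RGD.Pos cs h), u * wp k ω = d * u' := by
  induction ω with
  | nil =>
    intro u hu
    exact ⟨1, rfl, u, hu, by rw [one_mul]; exact mul_one u⟩
  | cons i ω ih =>
    intro u hu
    have h1 : u ∈ ((X (sr i) ⊔ RGD.Sup X (RGD.PosNe cs h i) : Subgroup Y) : Set Y) := by
      rw [← R.Upos_eq i]; exact hu
    rw [Subgroup.coe_mul_of_left_le_normalizer_right _ _ (R.X_le_normalizer_V i), Set.mem_mul] at h1
    obtain ⟨x, hx, v, hv, e⟩ := h1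
    have hv' : (k i)⁻¹ * v * k i ∈ RGD.Sup X (RGD.Pos cs h) := by
      refine conj_mem_Sup' R (hk i) (S := RGD.PosNe cs h i) (S' := RGD.Pos cs h) (fun z hz => hz.1)
        (fun z hz => ?_) hv
      rw [inv_simple]
      exact ⟨hz.1.act _, hz.1.simple_nonneg hz.2.1 i hz.2.2⟩
    obtain ⟨d, hd, u', hu', e'⟩ := ih _ hv'
    refine ⟨x * k i * d, ⟨x, hx, d, hd, rfl⟩, u', hu', ?_⟩
    rw [wp_cons, ← e]
    calc x * v * (k i * wp k ω) = x * k i * ((k i)⁻¹ * v * k i * wp k ω) := by group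
      _ = x * k i * d * u' := by rw [e']; group

/-- for a reduced word `DS` lies in `U k_ω` -/
theorem DS_sub (hk : ∀ i, Rp cs R.nsys (cs.simple i) (k i)) :
    ∀ ω : List I, cs.length (cs.wordProd ω) = ω.length → ∀ d ∈ DS X k ω,
      ∃ a ∈ RGD.Sup X (RGD.Inv cs h (cs.wordProd ω)), d = a * wp k ω := by
  intro ω
  induction ω with
  | nil =>
    intro _ d hd
    exact ⟨1, one_mem _, by rw [mem_DS_nil.1 hd, one_mul]; rfl⟩
  | cons i ω ih =>
    intro hlen d hd
    rw [wordProd_cons, List.length_cons] at hlen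
    have h1 : cs.length (cs.wordProd ω) = ω.length := by
      have h2 := cs.length_wordProd_le ω
      have h3 := cs.length_simple_mul (cs.wordProd ω) i
      omega
    have h2 : 0 ≤ rep cs h (cs.wordProd ω)⁻¹ (sr i) := by
      refine (lt_iff' cs h (cs.wordProd ω)⁻¹ i).1 ?_
      have h3 : (cs.wordProd ω)⁻¹ * cs.simple i = (cs.simple i * cs.wordProd ω)⁻¹ := by
        rw [mul_inv_rev, inv_simple]
      rw [h3, cs.length_inv, cs.length_inv]
      omega
    have h3 : rep cs h (cs.simple i * cs.wordProd ω)⁻¹ (sr i) ≤ 0 := by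
      rw [mul_inv_rev, inv_simple, rep_mul_apply, rep_simple_sr, map_neg]
      exact neg_nonpos.2 h2
    obtain ⟨x, hx, d', hd', rfl⟩ := hd
    obtain ⟨a, ha, e⟩ := ih h1 d' hd'
    rw [wordProd_cons]
    refine ⟨x * (k i * a * (k i)⁻¹), mul_mem ?_ ?_, ?_⟩
    · refine RGD.le_Sup (S := RGD.Inv cs h (cs.simple i * cs.wordProd ω)) ?_ hx
      exact (RGD.mem_inv_iff h3).2 (Or.inl rfl)
    · refine conj_mem_Sup R (hk i) (S := RGD.Inv cs h (cs.wordProd ω))
        (S' := RGD.Inv cs h (cs.simple i * cs.wordProd ω)) (fun z hz => hz.1) (fun z hz => ?_) ha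
      refine (RGD.mem_inv_iff h3).2 (Or.inr ?_)
      rw [← rep_mul_apply, simple_mul_simple_self, map_one, Module.End.one_apply, ← mul_assoc,
        simple_mul_simple_self, one_mul]
      exact hz
    · rw [e, wp_cons]; group

theorem Inv_le_U (w : W) : RGD.Sup X (RGD.Inv cs h w) ≤ RGD.Sup X (RGD.Pos cs h) :=
  RGD.Sup_mono fun _ hz => ⟨hz.1, hz.2.1⟩

omit R in
theorem rep_nonpos {w : W} (hw : ∀ i, rep cs h w (sr i) ≤ 0) {x : I → ℤ} (hx : 0 ≤ x) : rep cs h w x ≤ 0 := by
  have h1 : rep cs h w x = ∑ i, x i • rep cs h w (sr i) := by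
    rw [LinearMap.pi_apply_eq_sum_univ (rep cs h w) x]
    refine Finset.sum_congr rfl fun i _ => ?_
    congr 2
    funext j
    by_cases hij : i = j
    · subst hij
      rw [if_pos rfl, sr_self]
    · rw [if_neg hij, sr_ne (Ne.symm hij)]
  rw [h1]
  refine Finset.sum_nonpos fun i _ => ?_
  intro j
  rw [Pi.smul_apply, smul_eq_mul]
  exact mul_nonpos_of_nonneg_of_nonpos (hx i) (hw i j)

omit R in
/-- prefixes of reduced words are reduced -/
theorem length_prefix {ω η : List I} (hl : cs.length (cs.wordProd (ω ++ η)) = (ω ++ η).length) :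
    cs.length (cs.wordProd ω) = ω.length := by
  have h1 := cs.length_wordProd_le ω
  have h2 := cs.length_wordProd_le η
  have h3 := cs.length_mul_le (cs.wordProd ω) (cs.wordProd η)
  rw [← wordProd_append, hl, List.length_append] at h3
  omega

/-- **The Coxeter trick**, positive side. -/
theorem exists_conj_DS [Finite W] [Finite Y] (hk : ∀ i, Rp cs R.nsys (cs.simple i) (k i)) {ω : List I} {N : ℕ}
    (hred : cs.length (cs.wordProd (List.replicate N ω).flatten) = (List.replicate N ω).flatten.length)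
    (hlong : ∀ i, rep cs h (cs.wordProd (List.replicate N ω).flatten) (sr i) ≤ 0) {u : Y}
    (hu : u ∈ RGD.Sup X (RGD.Pos cs h)) : ∃ x : Y, ∃ d ∈ DS X k ω, u * wp k ω = x * d * x⁻¹ := by
  have hω : cs.length (cs.wordProd ω) = ω.length := by
    rcases N with _ | N
    · rcases ω with _ | ⟨i, ω⟩
      · simp
      · exfalso
        have h1 := hlong i
        rw [List.replicate_zero, List.flatten_nil, wordProd_nil, map_one, Module.End.one_apply] at h1
        have h2 := h1 i
        rw [sr_self] at h2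
        exact absurd h2 (by norm_num)
    · rw [List.replicate_succ, List.flatten_cons] at hred
      exact length_prefix hred
  obtain ⟨x, -, d, hd, e⟩ := exists_conj_of_power (U := RGD.Sup X (RGD.Pos cs h)) (V := UN cs h X) (U_inf_UN R)
    (n := wp k ω) (D := DS X k ω) (k := N)
    (fun d hd => by
      obtain ⟨a, ha, e⟩ := DS_sub R hk ω hω d hd
      exact ⟨a, Inv_le_U R _ ha, e⟩)
    (cover R hk ω)
    (fun d hd => by
      obtain ⟨a, ha, e⟩ := DS_sub R hk _ hred _ (pow_mem_DS hd N)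
      exact ⟨a, Inv_le_U R _ ha, by rw [e, wp_flatten]⟩)
    (fun u hu => by
      rw [← wp_flatten]
      refine conj_mem_Sup R (rp_wp R hk _) (S := RGD.Pos cs h) (S' := Neg cs h) (fun z hz => hz.1) (fun z hz => ?_) hu
      exact ⟨hz.1.act _, rep_nonpos hlong hz.2⟩) hu
  exact ⟨x, d, hd, e⟩

/-- **The Coxeter trick.** -/
theorem pe_of_gauss [Finite W] [Finite Y] (hk : ∀ i, Rp cs R.nsys (cs.simple i) (k i)) {ω : List I} {N : ℕ}
    (hred : cs.length (cs.wordProd (List.replicate N ω).flatten) = (List.replicate N ω).flatten.length)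
    (hlong : ∀ i, rep cs h (cs.wordProd (List.replicate N ω).flatten) (sr i) ≤ 0) {p : ℕ} {m : I → ℕ}
    (hm : ∀ i, ∀ x ∈ X (sr i), PE p (m i) (x * k i)) (hm' : ∀ i, ∀ x ∈ X (-sr i), PE p (m i) (x * k i))
    {v : Y} (hv : v ∈ UN cs h X) {u : Y} (hu : u ∈ RGD.Sup X (RGD.Pos cs h)) :
    PE p (2 * (ω.map m).sum) (v * u) := by
  obtain ⟨x, d, hd, e⟩ := exists_conj_DS R hk hred hlong (inv_mem hu)
  have hR' := Cfsg.Agent.KFacts.RgdOpp.opp R
  obtain ⟨x', d', hd', e'⟩ := exists_conj_DS hR' (k := k) hk hred hlong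
    (u := v) (by rw [Cfsg.Agent.KFacts.RgdOpp.U_opp]; exact hv)
  have h1 : PE p (ω.map m).sum d := pe_DS hm hd
  have h2 : PE p (ω.map m).sum d' := pe_DS (X := fun x => X (-x)) hm' hd'
  have h3 : v * u = (v * wp k ω) * (u⁻¹ * wp k ω)⁻¹ := by group
  rw [h3, two_mul, e, e']
  exact (h2.conj x').mul (h1.conj x).inv

end

section

variable {F : I → Type*} [∀ i, Field (F i)] {s : ∀ i, Matrix.SpecialLinearGroup (Fin 2) (F i) →* Y}

/-- **The Coxeter trick**, with coordinates. -/
theorem pe_of_nodes_aux [Finite W] [Finite Y] (R : RGD cs h r T n X) (C : Coord X F s)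
    {ω : List I} {N : ℕ}
    (hred : cs.length (cs.wordProd (List.replicate N ω).flatten) = (List.replicate N ω).flatten.length)
    (hlong : ∀ i, rep cs h (cs.wordProd (List.replicate N ω).flatten) (sr i) ≤ 0) {p : ℕ} {m : I → ℕ}
    (hm : ∀ i (t : F i), PE p (m i) (s i (OddHalf.NI.Mult.up t * OddHalf.NI.Mult.nn 1)))
    {v : Y} (hv : v ∈ UN cs h X) {u : Y} (hu : u ∈ RGD.Sup X (RGD.Pos cs h)) :
    PE p (2 * (ω.map m).sum) (v * u) := by
  refine pe_of_gauss R (k := fun i => s i (OddHalf.NI.Mult.nn 1)) (fun i => rp_nn R C i 1) hred hlong ?_ ?_ hv hu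
  · intro i x hx
    obtain ⟨t, rfl⟩ := C.exists_up hx
    rw [← map_mul]
    exact hm i t
  · intro i x hx
    obtain ⟨t, rfl⟩ := C.exists_lo hx
    have h1 := (hm i (-t)).conj (s i (OddHalf.NI.Mult.nn 1))⁻¹
    rw [inv_inv, ← map_inv, ← map_mul, ← map_mul] at h1
    rw [← map_mul]
    convert h1 using 2
    apply Subtype.ext
    simp only [Matrix.SpecialLinearGroup.coe_mul, Matrix.SpecialLinearGroup.coe_inv, OddHalf.NI.Mult.coe_up,
      OddHalf.NI.Mult.coe_nn, OddHalf.NI.Mult.coe_lo, Matrix.adjugate_fin_two_of, Matrix.mul_fin_two]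
    ext a b
    fin_cases a <;> fin_cases b <;> simp

/-- **The Coxeter trick**: the elements outside the core of `B`. -/
theorem pe_of_nodes [Finite W] [Finite Y] (R : RGD cs h r T n X) (hG : G1 cs h X = ⊤) (C : Coord X F s)
    (hconn : ∀ J : Set I, J.Nonempty → J ≠ Set.univ → ∃ a ∈ J, ∃ b, b ∉ J ∧ M a b ≠ 2)
    {ω Ω : List I} {N : ℕ} (hΩ : Ω = (List.replicate N ω).flatten)
    (hred : cs.length (cs.wordProd Ω) = Ω.length) (hlong : ∀ i, rep cs h (cs.wordProd Ω) (sr i) ≤ 0)
    {p : ℕ} {m : I → ℕ}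
    (hm : ∀ i (t : F i), PE p (m i) (s i (OddHalf.NI.Mult.up t * OddHalf.NI.Mult.nn 1)))
    {g : Y} (hg : g ∉ (RGD.B cs h T X).normalCore) : PE p (2 * (ω.map m).sum) g := by
  subst hΩ
  obtain ⟨x, v, hv, u, hu, e⟩ := Cfsg.Agent.H162.GaussDec.gauss R hG C hconn hg
  have h1 := (pe_of_nodes_aux R C hred hlong hm hv hu).conj x⁻¹
  rw [← e, inv_inv] at h1
  have h2 : x⁻¹ * (x * g * x⁻¹) * x = g := by group
  rwa [h2] at h1

/-- the own characteristic: two `r`-elements -/
theorem pe_own [Finite W] [Finite Y] [Fact r.Prime] (R : RGD cs h r T n X) (hG : G1 cs h X = ⊤) (C : Coord X F s)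
    (hconn : ∀ J : Set I, J.Nonempty → J ≠ Set.univ → ∃ a ∈ J, ∃ b, b ∉ J ∧ M a b ≠ 2)
    {g : Y} (hg : g ∉ (RGD.B cs h T X).normalCore) : PE r 2 g := by
  obtain ⟨x, v, hv, u, hu, e⟩ := Cfsg.Agent.H162.GaussDec.gauss R hG C hconn hg
  have hU : IsPE r u := by
    obtain ⟨k, hk⟩ := (RGD.isPGroup_Upos R) ⟨u, hu⟩
    exact ⟨k, congrArg Subtype.val hk⟩
  have hV : IsPE r v := by
    have hR' := Cfsg.Agent.KFacts.RgdOpp.opp R
    obtain ⟨k, hk⟩ := (RGD.isPGroup_Upos hR') ⟨v, by rw [Cfsg.Agent.KFacts.RgdOpp.U_opp]; exact hv⟩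
    exact ⟨k, congrArg Subtype.val hk⟩
  have h1 : PE r 2 (x * g * x⁻¹) := by
    rw [e]
    exact hV.pe.mul hU.pe
  have h3 := h1.conj x⁻¹
  rw [inv_inv] at h3
  have h2 : x⁻¹ * (x * g * x⁻¹) * x = g := by group
  rwa [h2] at h3

end

end Cfsg.Agent.H346.DP
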