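import Mathlib
import Cfsg.Agent.H346.DP.Cox
import Cfsg.Agent.H175.DP.Comm
import Cfsg.Agent.H175.DP.Min
import Cfsg.Agent.H175.DP.SL3Two
import Cfsg.Agent.H169.DP.LeviGow
import Cfsg.Agent.H622.Levi.Chain
import Cfsg.Agent.UGT.U2.FOne.ADE

/-!
Nodes of root group data: the elements of the rank one groups as products of `p`-elements (S2454).

`NodeP X p m i` : the noncentral elements of `⟨X_i, X_{-i}⟩` are products of `m` `p`-elements.
-/

set_option autoImplicit false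
set_option linter.unusedSectionVars false

namespace Cfsg.Agent.H346.DP

open CoxeterSystem Cfsg.Agent.ChevalleyStructure.CoxeterGeom Cfsg.Agent.Tits.Roots Cfsg.Agent.Tits.Core
  Cfsg.Agent.Tits.RootComb Cfsg.Agent.Nodes.Comb Cfsg.Agent.Nodes.Reps
  Cfsg.Agent.Nodes.BNOf Cfsg.Agent.Nodes.StabComb
  Cfsg.Agent.Nodes.RGDLib Cfsg.Agent.Nodes.Bruhat Cfsg.Agent.Nodes.OppDec
open Cfsg.Agent.OddHalf.NI.Mult (Coord rp_nn nn_mul_lo up lo nn dg)
open Cfsg.Agent.H514.DP (PE IsPE)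
open Cfsg.Agent.H53.HC (MJ)
open Cfsg.Agent.H175.DP (dc coe_dc)
open Cfsg.Agent.Tits.Exchange hiding nn
open Matrix

variable {I W Y : Type*} [Fintype I] [DecidableEq I] [Group W] [Group Y] {M : CoxeterMatrix I}
  {cs : CoxeterSystem M W} {A : I → I → ℤ} {h : IsCartan M A} {r : ℕ} {T : Subgroup Y} {n : I → Y}
  {X : (I → ℤ) → Subgroup Y}

/-- the noncentral elements of `⟨X_i, X_{-i}⟩` are products of `m` `p`-elements -/
def NodeP (X : (I → ℤ) → Subgroup Y) (p m : ℕ) (i : I) : Prop :=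
  ∀ y ∈ X (sr i) ⊔ X (-sr i), (∃ g ∈ X (sr i) ⊔ X (-sr i), y * g ≠ g * y) → PE p m y

omit [Fintype I] in
theorem NodeP.mono {p m m' : ℕ} {i : I} (h : NodeP X p m i) (hm : m ≤ m') : NodeP X p m' i :=
  fun y hy hc => (h y hy hc).mono hm

/-- nodes with conjugate root groups -/
theorem NodeP.of_rep (R : RGD cs h r T n X) {p m : ℕ} {i j : I} {w : W} (hw : rep cs h w (sr i) = sr j)
    (hi : NodeP X p m i) : NodeP X p m j := by
  obtain ⟨g, hg⟩ := exists_rp cs R.nsys w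
  have e1 : cj g (X (sr i)) = X (sr j) := by rw [R.conj_rp hg (isRoot_sr cs h i), hw]
  have e2 : cj g (X (-sr i)) = X (-sr j) := by rw [R.conj_rp hg (isRoot_sr cs h i).neg, map_neg, hw]
  have e3 : cj g (X (sr i) ⊔ X (-sr i)) = X (sr j) ⊔ X (-sr j) := by rw [cj_sup, e1, e2]
  intro y hy ⟨k, hk, hyk⟩
  rw [← e3, mem_cj] at hy hk
  have h1 := (hi _ hy ⟨_, hk, fun h2 => hyk ?_⟩).conj g
  · have h2 : g * (g⁻¹ * y * g) * g⁻¹ = y := by group
    rwa [h2] at h1
  · calc y * k = g * ((g⁻¹ * y * g) * (g⁻¹ * k * g)) * g⁻¹ := by group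
      _ = k * y := by rw [h2]; group

/-- adjacent nodes -/
theorem NodeP.adj (R : RGD cs h r T n X) {p m : ℕ} {i j : I} (hij : M i j = 3) (hi : NodeP X p m i) :
    NodeP X p m j := by
  obtain ⟨w, hw⟩ := Cfsg.Agent.UGT.U2.FOne.exists_act_of_three (cs := cs) (h := h) hij
  exact NodeP.of_rep R hw hi

section coord

variable {F : I → Type*} [∀ i, Field (F i)] {s : ∀ i, Matrix.SpecialLinearGroup (Fin 2) (F i) →* Y}

/-- `x_i(t) n_i` is not central -/
theorem nodes_noncentral [Finite W] (R : RGD cs h r T n X) (C : Coord X F s) (i : I) (t : F i) :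
    ∃ g ∈ X (sr i) ⊔ X (-sr i), s i (up t * nn 1) * g ≠ g * s i (up t * nn 1) := by
  by_contra hcon
  push Not at hcon
  have h1 : X (-sr i) ≤ X (sr i) := by
    intro b hb
    have h2 := hcon b (Subgroup.mem_sup_right hb)
    have h3 : s i (nn 1) * b * (s i (nn 1))⁻¹ ∈ X (sr i) := by
      rw [← C.cj_nn' i 1, conj_mem_cj]
      exact hb
    have h4 : b = s i (up t) * (s i (nn 1) * b * (s i (nn 1))⁻¹) * (s i (up t))⁻¹ := by
      calc b = (b * s i (up t * nn 1)) * (s i (up t * nn 1))⁻¹ := by group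
        _ = (s i (up t * nn 1) * b) * (s i (up t * nn 1))⁻¹ := by rw [h2]
        _ = _ := by rw [map_mul]; group
    rw [h4]
    exact mul_mem (mul_mem (C.mem_up i t) h3) (inv_mem (C.mem_up i t))
  have h2 : X (-sr i) = ⊥ := by
    rw [eq_bot_iff, ← X_inf_X R (isRoot_sr cs h i) (isRoot_sr cs h i).neg
      (fun e => (isRoot_sr cs h i).ne_zero (self_eq_neg.1 e))]
    exact le_inf h1 le_rfl
  exact X_ne_bot R (isRoot_sr cs h i).neg h2

theorem mem_KK (C : Coord X F s) (i : I) (g : Matrix.SpecialLinearGroup (Fin 2) (F i)) :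
    s i g ∈ X (sr i) ⊔ X (-sr i) := C.range_le_KK i ⟨g, rfl⟩

theorem NodeP.nodes [Finite W] (R : RGD cs h r T n X) (C : Coord X F s) {p m : ℕ} {i : I} (hi : NodeP X p m i)
    (t : F i) : PE p m (s i (up t * nn 1)) :=
  hi _ (mem_KK C i _) (nodes_noncentral R C i t)

omit [Fintype I] [DecidableEq I] in
theorem scalar_comm {K : Type*} [Field K] {g : Matrix.SpecialLinearGroup (Fin 2) K} {c : K}
    (hc : (g : Matrix (Fin 2) (Fin 2) K) = c • (1 : Matrix (Fin 2) (Fin 2) K))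
    (g' : Matrix.SpecialLinearGroup (Fin 2) K) : g * g' = g' * g := by
  apply Subtype.ext
  rw [Matrix.SpecialLinearGroup.coe_mul, Matrix.SpecialLinearGroup.coe_mul, hc, smul_mul_assoc, one_mul,
    mul_smul_comm, mul_one]

/-- a noncentral element of the rank one group comes from a non-scalar matrix -/
theorem exists_nonscalar (C : Coord X F s) {i : I} {y : Y} (hy : y ∈ X (sr i) ⊔ X (-sr i))
    (hc : ∃ g ∈ X (sr i) ⊔ X (-sr i), y * g ≠ g * y) :
    ∃ g : Matrix.SpecialLinearGroup (Fin 2) (F i), s i g = y ∧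
      ∀ c : F i, (g : Matrix (Fin 2) (Fin 2) (F i)) ≠ c • (1 : Matrix (Fin 2) (Fin 2) (F i)) := by
  obtain ⟨g, rfl⟩ := C.KK_le_range i hy
  refine ⟨g, rfl, fun c hgc => ?_⟩
  obtain ⟨k, hk, hgk⟩ := hc
  obtain ⟨k, rfl⟩ := C.KK_le_range i hk
  apply hgk
  rw [← map_mul, ← map_mul, scalar_comm hgc]

/-- an element acting on the rank one group as `dc μ`, `μ ≠ 1` -/
theorem NodeP.of_act (C : Coord X F s) {i : I} {z : Y} {μ : (F i)ˣ} (hμ : μ ≠ 1)
    (hz : ∀ g, z * s i g * z⁻¹ = s i (dc μ g)) {p m : ℕ} (hm : PE p m z) : NodeP X p (2 * m) i := by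
  intro y hy hc
  obtain ⟨g, rfl, hg⟩ := exists_nonscalar C hy hc
  exact H175.DP.pe_node (s i) hμ hz hm hg

omit [Fintype I] [DecidableEq I] in
theorem dc_one {K : Type*} [Field K] (g : Matrix.SpecialLinearGroup (Fin 2) K) : dc 1 g = g := by
  apply Subtype.ext
  rw [coe_dc]
  ext a b
  fin_cases a <;> fin_cases b <;> simp

omit [Fintype I] [DecidableEq I] in
theorem coe_up_nn {K : Type*} [Field K] (t : K) :
    ((up t * nn 1 : Matrix.SpecialLinearGroup (Fin 2) K) : Matrix (Fin 2) (Fin 2) K) = !![-t, 1; -1, 0] := by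
  rw [Matrix.SpecialLinearGroup.coe_mul, OddHalf.NI.Mult.coe_up, OddHalf.NI.Mult.coe_nn, Matrix.mul_fin_two]
  ext a b
  fin_cases a <;> fin_cases b <;> simp

omit [Fintype I] [DecidableEq I] in
theorem up_nn_nonscalar {K : Type*} [Field K] (t c : K) :
    ((up t * nn 1 : Matrix.SpecialLinearGroup (Fin 2) K) : Matrix (Fin 2) (Fin 2) K) ≠
      c • (1 : Matrix (Fin 2) (Fin 2) K) := by
  rw [coe_up_nn]
  intro h1
  have h2 := congrFun (congrFun h1 0) 1
  simp at h2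

/-- for the field with two elements the nodes are enough -/
theorem NodeP.of_nodes_two (C : Coord X F s) {i : I} (h2 : ∀ u : (F i)ˣ, u = 1) {p m : ℕ}
    (hm : ∀ t : F i, PE p m (s i (up t * nn 1))) : NodeP X p m i := by
  intro y hy hc
  obtain ⟨g, rfl, hg⟩ := exists_nonscalar C hy hc
  obtain ⟨δ, k, e⟩ := H175.DP.exists_conj
    (up (-(g : Matrix (Fin 2) (Fin 2) (F i)).trace) * nn 1) g (up_nn_nonscalar _) hg
    (by rw [coe_up_nn, Matrix.trace_fin_two_of]; ring)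
  rw [h2 δ, dc_one] at e
  rw [e, map_mul, map_mul, map_inv]
  exact (hm _).conj _

end coord

/-! ### Levi subgroups -/

theorem X_le_MJ {J : Set I} {j : I} (hj : j ∈ J) : X (sr j) ≤ MJ cs h X J :=
  RGD.le_Sup (S := RootsJ cs h J) ⟨isRoot_sr cs h j, fun _ hk => sr_ne fun e => hk (e ▸ hj)⟩

theorem X_neg_le_MJ {J : Set I} {j : I} (hj : j ∈ J) : X (-sr j) ≤ MJ cs h X J :=
  RGD.le_Sup (S := RootsJ cs h J)
    (RootsJ.neg (cs := cs) (h := h) ⟨isRoot_sr cs h j, fun _ hk => sr_ne fun e => hk (e ▸ hj)⟩)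

theorem KK_le_MJ {J : Set I} {j : I} (hj : j ∈ J) : X (sr j) ⊔ X (-sr j) ≤ MJ cs h X J :=
  sup_le (X_le_MJ hj) (X_neg_le_MJ hj)

theorem MJ_mono {J K : Set I} (hJK : J ⊆ K) : MJ cs h X J ≤ MJ cs h X K :=
  RGD.Sup_mono fun _ hx => ⟨hx.1, fun k hk => hx.2 k fun h1 => hk (hJK h1)⟩

theorem exists_rp_MJ (R : RGD cs h r T n X) (hn : ∀ i, n i ∈ X (sr i) ⊔ X (-sr i)) {J : Set I} {w : W}
    (hw : w ∈ WJ cs J) : ∃ g ∈ MJ cs h X J, Rp cs R.nsys w g := by
  induction hw using Subgroup.closure_induction with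
  | mem x hx =>
    obtain ⟨j, hj, rfl⟩ := hx
    exact ⟨n j, KK_le_MJ hj (hn j), rp_simple cs R.nsys j⟩
  | one => exact ⟨1, one_mem _, rp_one⟩
  | mul x y _ _ hx hy =>
    obtain ⟨g, hg, hg'⟩ := hx
    obtain ⟨k, hk, hk'⟩ := hy
    exact ⟨g * k, mul_mem hg hk, hg'.mul hk'⟩
  | inv x _ hx =>
    obtain ⟨g, hg, hg'⟩ := hx
    exact ⟨g⁻¹, inv_mem hg, hg'.inv⟩

/-- `MJ` is the normal closure of the root groups of the simple roots -/
theorem MJ_le_of_simple [Finite W] (R : RGD cs h r T n X) (hn : ∀ i, n i ∈ X (sr i) ⊔ X (-sr i)) {J : Set I}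
    {N : Subgroup Y} (hN : MJ cs h X J ≤ Subgroup.normalizer (N : Set Y)) (hX : ∀ j ∈ J, X (sr j) ≤ N) :
    MJ cs h X J ≤ N := by
  refine RGD.Sup_le fun x hx => ?_
  obtain ⟨w, hw, j, hj, rfl⟩ := exists_of_mem_RootsJ hx
  obtain ⟨g, hg, hg'⟩ := exists_rp_MJ R hn hw
  rw [← R.conj_rp hg' (isRoot_sr cs h j)]
  have h1 := cj_mono g (hX j hj)
  rwa [mem_normalizer_iff_cj.1 (hN hg)] at h1

theorem normalizer_comm (K : Subgroup Y) : K ≤ Subgroup.normalizer ((⁅K, K⁆ : Subgroup Y) : Set Y) := by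
  intro g hg
  rw [mem_normalizer_iff_cj]
  have h1 : cj g (⁅K, K⁆ : Subgroup Y) = ⁅cj g K, cj g K⁆ := Subgroup.map_commutator _ _ _
  rw [h1, cj_eq_of_mem hg]

section perfect

variable {F : I → Type*} [∀ i, Field (F i)] {s : ∀ i, Matrix.SpecialLinearGroup (Fin 2) (F i) →* Y}

omit [Fintype I] [DecidableEq I] in
theorem exists_sq_ne_one {K : Type*} [Field K] (hK : 4 ≤ Nat.card K) : ∃ u : Kˣ, u ^ 2 ≠ 1 := by
  classical
  have : Finite K := Nat.finite_of_card_ne_zero (by omega)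
  have := Fintype.ofFinite K
  rw [Nat.card_eq_fintype_card] at hK
  obtain ⟨x, hx⟩ : ∃ x : K, x ∉ ({0, 1, -1} : Finset K) := by
    by_contra hcon
    push Not at hcon
    have h1 : (Finset.univ : Finset K) ⊆ {0, 1, -1} := fun x _ => hcon x
    have h2 := Finset.card_le_card h1
    have h3 := Finset.card_le_three (a := (0 : K)) (b := 1) (c := -1)
    rw [Finset.card_univ] at h2
    omega
  simp only [Finset.mem_insert, Finset.mem_singleton, not_or] at hx
  refine ⟨Units.mk0 x hx.1, fun h1 => ?_⟩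
  have h2 : x ^ 2 = 1 := by
    have := congrArg Units.val h1
    simpa using this
  have h4 : (x - 1) * (x + 1) = 0 := by linear_combination h2
  rcases mul_eq_zero.1 h4 with h3 | h3
  · exact hx.2.1 (sub_eq_zero.1 h3)
  · exact hx.2.2 (eq_neg_of_add_eq_zero_left h3)
end perfect

end Cfsg.Agent.H346.DP
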