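import Mathlib
import Cfsg.Agent.H162.GaussExcMain
import Cfsg.Agent.H346.DP.Cox

/-!
The Coxeter trick for the Chevalley groups `D.group K` (S2454): `pw_chev`, `pw_own`.
-/

set_option autoImplicit false
set_option linter.unusedSectionVars false

namespace Cfsg.Agent.H346.DP

open CoxeterSystem Cfsg.Agent.ChevalleyStructure.CoxeterGeom Cfsg.Agent.Tits.Roots Cfsg.Agent.Tits.Core
  Cfsg.Agent.Nodes.Reps Cfsg.Agent.Nodes.BNOf Cfsg.Agent.Nodes.RGDLib Cfsg.Agent.Nodes.Bruhat
  Cfsg.Agent.Nodes.OppDec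
open Cfsg.Agent.H514.DP (PE IsPE PW)
open Cfsg.Lie Cfsg.Agent.ChevalleyStructure Cfsg.Agent.Nodes.RGDChev Cfsg.Agent.KFacts.RgdChevCoord
  Cfsg.Agent.OddHalf.NI.ModelChev

universe u

/-- lengths of concatenations -/
theorem length_append_of {I W : Type*} [Fintype I] [DecidableEq I] [Group W] {M : CoxeterMatrix I}
    (cs : CoxeterSystem M W) {A : I → I → ℤ} (h : IsCartan M A) {Ω ω : List I}
    (hΩ : cs.length (cs.wordProd Ω) = Ω.length)
    (hpre : ∀ η j ζ, ω = η ++ j :: ζ → 0 ≤ rep cs h (cs.wordProd Ω) (rep cs h (cs.wordProd η) (sr j))) :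
    cs.length (cs.wordProd (Ω ++ ω)) = (Ω ++ ω).length := by
  induction ω using List.reverseRecOn with
  | nil => rw [List.append_nil]; exact hΩ
  | append_singleton η i ih =>
    have h1 := ih fun η' j ζ e => hpre η' j (ζ ++ [i]) (by rw [e]; simp)
    have h0 := hpre η i [] rfl
    rw [← rep_mul_apply, ← wordProd_append] at h0
    have h2 := (lt_iff' cs h (cs.wordProd (Ω ++ η)) i).2 h0
    have h3 := cs.length_mul_simple (cs.wordProd (Ω ++ η)) i
    rw [← List.append_assoc, wordProd_append, wordProd_singleton, List.length_append, List.length_singleton]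
    omega

open Cfsg.Agent.H162.GaussExc (fr fr_vec fr_lt)

/-- the tables of a reduced word `ω^N` of the longest element: `P j b` is the root `ω^b (ω_0 ... ω_{j-1}) α_{ω_j}`,
`Q i b` the root `ω^b α_i`. -/
structure TOk (D : ChevalleyDatum) (l : ℕ) (ω : List (Fin l)) (N : ℕ) (P Q : ℕ → ℕ → ℕ) : Prop where
  p0 : ∀ j : Fin ω.length, P j 0 = fr D (ω.take j) (D.simple (ω.get j))
  ps : ∀ j : Fin ω.length, ∀ b : Fin N, b.1 + 1 < N → P j (b + 1) = fr D ω (P j b)
  pp : ∀ j : Fin ω.length, ∀ b : Fin N, ∀ k : Fin l, 0 ≤ vec D l (P j b) k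
  q0 : ∀ i : Fin l, Q i 0 = D.simple i
  qs : ∀ i : Fin l, ∀ b : Fin N, Q i (b + 1) = fr D ω (Q i b)
  qn : ∀ i k : Fin l, vec D l (Q i N) k ≤ 0

/-- decidable form of `TOk` -/
def ChkT (D : ChevalleyDatum) (l : ℕ) (ω : List (Fin l)) (N : ℕ) (P Q : ℕ → ℕ → ℕ) : Prop :=
  (∀ j : Fin ω.length, P j 0 = fr D (ω.take j) (D.simple (ω.get j))) ∧
  (∀ j : Fin ω.length, ∀ b : Fin N, b.1 + 1 < N → P j (b + 1) = fr D ω (P j b)) ∧
  (∀ j : Fin ω.length, ∀ b : Fin N, ∀ k : Fin l, 0 ≤ vec D l (P j b) k) ∧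
  (∀ i : Fin l, Q i 0 = D.simple i) ∧
  (∀ i : Fin l, ∀ b : Fin N, Q i (b + 1) = fr D ω (Q i b)) ∧
  ∀ i k : Fin l, vec D l (Q i N) k ≤ 0

instance (D : ChevalleyDatum) (l : ℕ) (ω : List (Fin l)) (N : ℕ) (P Q : ℕ → ℕ → ℕ) :
    Decidable (ChkT D l ω N P Q) := by
  unfold ChkT; infer_instance

theorem ChkT.tok {D : ChevalleyDatum} {l : ℕ} {ω : List (Fin l)} {N : ℕ} {P Q : ℕ → ℕ → ℕ}
    (h : ChkT D l ω N P Q) : TOk D l ω N P Q := ⟨h.1, h.2.1, h.2.2.1, h.2.2.2.1, h.2.2.2.2.1, h.2.2.2.2.2⟩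

section

variable {D : ChevalleyDatum} {l : ℕ} {M : CoxeterMatrix (Fin l)} (hp : IsType D l M) {ω : List (Fin l)} {N : ℕ}
  {P Q : ℕ → ℕ → ℕ} (hT : TOk D l ω N P Q)

include hp hT

theorem TOk.rep_q (i : Fin l) (b : ℕ) (hb : b ≤ N) : Q i b < D.nroots ∧
    rep M.toCoxeterSystem hp.isCartan (M.toCoxeterSystem.wordProd (List.replicate b ω).flatten) (sr i) =
      vec D l (Q i b) := by
  induction b with
  | zero =>
    rw [hT.q0 i]
    refine ⟨NPerm.simple_lt hp.inList (lt_rank hp i), ?_⟩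
    rw [List.replicate_zero, List.flatten_nil, wordProd_nil, map_one, Module.End.one_apply, vec_simple hp i]
  | succ b ih =>
    obtain ⟨h1, h2⟩ := ih (by omega)
    have h3 := hT.qs i ⟨b, by omega⟩
    change Q i (b + 1) = fr D ω (Q i b) at h3
    rw [h3]
    refine ⟨fr_lt hp ω h1, ?_⟩
    rw [List.replicate_succ, List.flatten_cons, wordProd_append, rep_mul_apply, h2, fr_vec hp M.toCoxeterSystem ω h1]

theorem TOk.long (i : Fin l) :
    rep M.toCoxeterSystem hp.isCartan (M.toCoxeterSystem.wordProd (List.replicate N ω).flatten) (sr i) ≤ 0 := by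
  rw [(hT.rep_q hp i N le_rfl).2]
  exact hT.qn i

theorem TOk.rep_p {η : List (Fin l)} {j : Fin l} {ζ : List (Fin l)} (he : ω = η ++ j :: ζ) (b : ℕ) (hb : b < N) :
    P η.length b < D.nroots ∧
    rep M.toCoxeterSystem hp.isCartan (M.toCoxeterSystem.wordProd (List.replicate b ω).flatten)
      (rep M.toCoxeterSystem hp.isCartan (M.toCoxeterSystem.wordProd η) (sr j)) = vec D l (P η.length b) := by
  have hl : η.length < ω.length := by rw [he]; simp
  induction b with
  | zero =>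
    have h2 := hT.p0 ⟨η.length, hl⟩
    have h3 : ω.take η.length = η := by rw [he]; simp
    have h4 : ω.get ⟨η.length, hl⟩ = j := by
      subst he
      simp
    rw [h4] at h2
    change P η.length 0 = fr D (ω.take η.length) (D.simple j) at h2
    rw [h3] at h2
    have h5 := NPerm.simple_lt hp.inList (lt_rank hp j)
    rw [h2]
    refine ⟨fr_lt hp η h5, ?_⟩
    rw [List.replicate_zero, List.flatten_nil, wordProd_nil, map_one, Module.End.one_apply, ← vec_simple hp j,
      fr_vec hp M.toCoxeterSystem η h5]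
  | succ b ih =>
    obtain ⟨h1, h2⟩ := ih (by omega)
    have h3 := hT.ps ⟨η.length, hl⟩ ⟨b, by omega⟩ hb
    change P η.length (b + 1) = fr D ω (P η.length b) at h3
    rw [h3]
    refine ⟨fr_lt hp ω h1, ?_⟩
    rw [List.replicate_succ, List.flatten_cons, wordProd_append, rep_mul_apply, h2, fr_vec hp M.toCoxeterSystem ω h1]

theorem TOk.red_aux (b : ℕ) (hb : b ≤ N) :
    M.toCoxeterSystem.length (M.toCoxeterSystem.wordProd (List.replicate b ω).flatten) =
      (List.replicate b ω).flatten.length := by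
  induction b with
  | zero => simp
  | succ b ih =>
    rw [List.replicate_succ', List.flatten_append, List.flatten_singleton]
    refine length_append_of _ hp.isCartan (ih (by omega)) fun η j ζ he => ?_
    rw [(hT.rep_p hp he b (by omega)).2]
    have hl : η.length < ω.length := by rw [he]; simp
    exact hT.pp ⟨η.length, hl⟩ ⟨b, by omega⟩

theorem TOk.red :
    M.toCoxeterSystem.length (M.toCoxeterSystem.wordProd (List.replicate N ω).flatten) =
      (List.replicate N ω).flatten.length := hT.red_aux hp N le_rfl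

end

section

variable {D : ChevalleyDatum} {l : ℕ} {M : CoxeterMatrix (Fin l)} (hp : IsType D l M) {K : Type u} [Field K]
  [Finite K] {r : ℕ} [Fact r.Prime] [CharP K r]

theorem notMem_core (hl : 0 < l) (hG : IsSimpleGroup ↥(D.group K) ∧ ¬ IsMulCommutative ↥(D.group K))
    {g : ↥(D.group K)} (hg : g ≠ 1) :
    g ∉ (RGD.B M.toCoxeterSystem hp.isCartan (TT D K) (XX D l K)).normalCore := by
  have := finite_W hp M.toCoxeterSystem
  have := hG.1
  have : Nonempty (Fin l) := ⟨⟨0, hl⟩⟩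
  obtain ⟨r, hr⟩ := CharP.exists K
  have := Fintype.ofFinite K
  have : Fact r.Prime := ⟨(CharP.char_is_prime_or_zero K r).resolve_right (CharP.char_ne_zero_of_finite K r)⟩
  intro h1
  have h2 := H162.GaussMain.core_le_ker (rgd (K := K) hp M.toCoxeterSystem r) (MonoidHom.id _)
    Function.surjective_id (fun x hx => by
      rw [MonoidHom.mem_ker] at hx
      change x = 1 at hx
      rw [hx]
      exact one_mem _) h1
  exact hg h2

/-- **The Coxeter trick for `D.group K`.** -/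
theorem pw_chev (hl : 0 < l) (hG : IsSimpleGroup ↥(D.group K) ∧ ¬ IsMulCommutative ↥(D.group K))
    (hM : ∀ J : Finset (Fin l), J = ∅ ∨ J = Finset.univ ∨ ∃ a ∈ J, ∃ b, b ∉ J ∧ M a b ≠ 2)
    {ω : List (Fin l)} {N : ℕ} {P Q : ℕ → ℕ → ℕ} (hT : TOk D l ω N P Q) {p : ℕ} {m : Fin l → ℕ}
    (hm : ∀ i (t : K), PE p (m i) (sl hp i (OddHalf.NI.Mult.up t * OddHalf.NI.Mult.nn 1))) {c : ℕ}
    (hc : 2 * (ω.map m).sum ≤ c) : PW p c ↥(D.group K) := by
  intro g
  by_cases hg : g = 1
  · subst hg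
    exact H514.DP.pe_one_elt c
  have := finite_W hp M.toCoxeterSystem
  obtain ⟨r, hr⟩ := CharP.exists K
  have := Fintype.ofFinite K
  have : Fact r.Prime := ⟨(CharP.char_is_prime_or_zero K r).resolve_right (CharP.char_ne_zero_of_finite K r)⟩
  exact (pe_of_nodes (rgd (K := K) hp M.toCoxeterSystem r) (G1_eq_top hp _) (H162.GaussExc.coord hp)
    (Cfsg.Agent.Nodes.ChevChart.irr_of hM) rfl (hT.red hp) (hT.long hp) hm
    (notMem_core hp hl hG hg)).mono hc

include hp in
/-- the own characteristic -/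
theorem pw_own (hl : 0 < l) (hG : IsSimpleGroup ↥(D.group K) ∧ ¬ IsMulCommutative ↥(D.group K))
    (hM : ∀ J : Finset (Fin l), J = ∅ ∨ J = Finset.univ ∨ ∃ a ∈ J, ∃ b, b ∉ J ∧ M a b ≠ 2) :
    PW r 2 ↥(D.group K) := by
  intro g
  by_cases hg : g = 1
  · subst hg
    exact H514.DP.pe_one_elt 2
  have := finite_W hp M.toCoxeterSystem
  exact pe_own (rgd (K := K) hp M.toCoxeterSystem r) (G1_eq_top hp _) (H162.GaussExc.coord hp)
    (Cfsg.Agent.Nodes.ChevChart.irr_of hM) (notMem_core hp hl hG hg)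

end

end Cfsg.Agent.H346.DP
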