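import Mathlib
import Cfsg.Agent.H346.DP.ChevGlue

/-!
The tables of the Coxeter words of `F₄`, `E₆`, `E₇`, `E₈` (S2454).
-/

set_option autoImplicit false

namespace Cfsg.Agent.H346.DP

open Cfsg.Lie
open Cfsg.Agent.ChevalleyStructure Cfsg.Agent.Nodes.RGDChev Cfsg.Agent.KFacts.RgdChevCoord
open Cfsg.Agent.H162.GaussExc (fr)

/-- a table as a function -/
def tb (L : List (List ℕ)) (j b : ℕ) : ℕ := (L.getD j []).getD b 0

def PF : List (List ℕ) :=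
  [[33, 27, 35, 38, 28, 36],
  [34, 37, 44, 40, 39, 29],
  [41, 45, 46, 47, 32, 26],
  [42, 30, 43, 31, 25, 24]]

def QF : List (List ℕ) :=
  [[33, 27, 35, 38, 28, 36, 14],
  [27, 35, 38, 28, 36, 14, 20],
  [25, 24, 5, 17, 4, 16, 22],
  [24, 5, 17, 4, 16, 22, 23]]

theorem chkF : ChkT chevF4 4 [0, 1, 2, 3] 6 (tb PF) (tb QF) := by decide +kernel

def P6 : List (List ℕ) :=
  [[56, 43, 49, 59, 50, 38],
  [39, 65, 70, 71, 69, 51],
  [36, 40, 61, 45, 48, 57],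
  [47, 60, 53, 63, 44, 46],
  [58, 54, 66, 67, 52, 37],
  [41, 64, 68, 55, 62, 42]]

def Q6 : List (List ℕ) :=
  [[56, 43, 49, 59, 50, 38, 35],
  [46, 24, 11, 18, 8, 27, 25],
  [42, 13, 17, 5, 4, 19, 34],
  [39, 65, 70, 71, 69, 51, 32],
  [37, 30, 7, 3, 16, 9, 29],
  [36, 40, 61, 45, 48, 57, 15]]

theorem chk6 : ChkT chevE6 6 [0, 3, 5, 1, 2, 4] 6 (tb P6) (tb Q6) := by decide +kernel

def P7 : List (List ℕ) :=
  [[93, 73, 79, 96, 85, 105, 75, 81, 98],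
  [78, 95, 84, 104, 113, 88, 107, 76, 82],
  [94, 83, 103, 112, 121, 116, 90, 108, 77],
  [99, 109, 119, 125, 124, 123, 118, 92, 72],
  [100, 110, 120, 115, 122, 117, 91, 71, 68],
  [101, 111, 87, 106, 114, 89, 70, 67, 65],
  [102, 74, 80, 97, 86, 69, 66, 64, 63]]

def Q7 : List (List ℕ) :=
  [[93, 73, 79, 96, 85, 105, 75, 81, 98, 32],
  [78, 95, 84, 104, 113, 88, 107, 76, 82, 47],
  [73, 79, 96, 85, 105, 75, 81, 98, 32, 52],
  [69, 66, 64, 63, 23, 51, 45, 28, 39, 56],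
  [66, 64, 63, 23, 51, 45, 28, 39, 56, 59],
  [64, 63, 23, 51, 45, 28, 39, 56, 59, 61],
  [63, 23, 51, 45, 28, 39, 56, 59, 61, 62]]

theorem chk7 : ChkT chevE7 7 [0, 1, 2, 3, 4, 5, 6] 9 (tb P7) (tb Q7) := by decide +kernel

def P8 : List (List ℕ) :=
  [[162, 135, 142, 165, 149, 176, 190, 153, 179, 192, 154, 180, 138, 145, 168],
  [141, 164, 148, 175, 189, 208, 195, 211, 197, 212, 198, 157, 182, 139, 146],
  [163, 147, 174, 188, 207, 228, 220, 214, 230, 222, 216, 201, 159, 183, 140],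
  [169, 184, 204, 226, 234, 235, 236, 237, 238, 239, 224, 218, 203, 161, 134],
  [170, 185, 205, 227, 219, 233, 232, 225, 231, 223, 217, 202, 160, 133, 129],
  [171, 186, 206, 194, 210, 229, 221, 215, 200, 213, 199, 158, 132, 128, 125],
  [172, 187, 152, 178, 191, 209, 196, 156, 181, 193, 155, 131, 127, 124, 122],
  [173, 136, 143, 166, 150, 177, 137, 144, 167, 151, 130, 126, 123, 121, 120]]

def Q8 : List (List ℕ) :=
  [[162, 135, 142, 165, 149, 176, 190, 153, 179, 192, 154, 180, 138, 145, 168, 77],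
  [141, 164, 148, 175, 189, 208, 195, 211, 197, 212, 198, 157, 182, 139, 146, 98],
  [135, 142, 165, 149, 176, 190, 153, 179, 192, 154, 180, 138, 145, 168, 77, 104],
  [130, 126, 123, 121, 120, 66, 103, 96, 73, 89, 62, 102, 95, 72, 88, 109],
  [126, 123, 121, 120, 66, 103, 96, 73, 89, 62, 102, 95, 72, 88, 109, 113],
  [123, 121, 120, 66, 103, 96, 73, 89, 62, 102, 95, 72, 88, 109, 113, 116],
  [121, 120, 66, 103, 96, 73, 89, 62, 102, 95, 72, 88, 109, 113, 116, 118],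
  [120, 66, 103, 96, 73, 89, 62, 102, 95, 72, 88, 109, 113, 116, 118, 119]]

/-- the word -/
def w8 : List (Fin 8) := [0, 1, 2, 3, 4, 5, 6, 7]

theorem chk8_a : ∀ j : Fin w8.length, tb P8 j 0 = fr chevE8 (w8.take j) (chevE8.simple (w8.get j)) := by
  decide +kernel

theorem chk8_b0 : ∀ j : Fin w8.length, j.1 < 3 → ∀ b : Fin 15, b.1 + 1 < 15 →
    tb P8 j (b + 1) = fr chevE8 w8 (tb P8 j b) := by decide +kernel

theorem chk8_b1 : ∀ j : Fin w8.length, 3 ≤ j.1 → j.1 < 6 → ∀ b : Fin 15, b.1 + 1 < 15 →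
    tb P8 j (b + 1) = fr chevE8 w8 (tb P8 j b) := by decide +kernel

theorem chk8_b2 : ∀ j : Fin w8.length, 6 ≤ j.1 → ∀ b : Fin 15, b.1 + 1 < 15 →
    tb P8 j (b + 1) = fr chevE8 w8 (tb P8 j b) := by decide +kernel

theorem chk8_c : ∀ j : Fin w8.length, ∀ b : Fin 15, ∀ k : Fin 8, 0 ≤ vec chevE8 8 (tb P8 j b) k := by
  decide +kernel

theorem chk8_d : ∀ i : Fin 8, tb Q8 i 0 = chevE8.simple i := by decide +kernel

theorem chk8_e0 : ∀ i : Fin 8, i.1 < 3 → ∀ b : Fin 15, tb Q8 i (b + 1) = fr chevE8 w8 (tb Q8 i b) := by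
  decide +kernel

theorem chk8_e1 : ∀ i : Fin 8, 3 ≤ i.1 → i.1 < 6 → ∀ b : Fin 15,
    tb Q8 i (b + 1) = fr chevE8 w8 (tb Q8 i b) := by decide +kernel

theorem chk8_e2 : ∀ i : Fin 8, 6 ≤ i.1 → ∀ b : Fin 15, tb Q8 i (b + 1) = fr chevE8 w8 (tb Q8 i b) := by
  decide +kernel

theorem chk8_f : ∀ i k : Fin 8, vec chevE8 8 (tb Q8 i 15) k ≤ 0 := by decide +kernel

theorem chk8_b : ∀ j : Fin w8.length, ∀ b : Fin 15, b.1 + 1 < 15 → tb P8 j (b + 1) = fr chevE8 w8 (tb P8 j b) := by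
  intro j
  by_cases h1 : j.1 < 3
  · exact chk8_b0 j h1
  by_cases h2 : j.1 < 6
  · exact chk8_b1 j (by omega) h2
  · exact chk8_b2 j (by omega)

theorem chk8_e : ∀ i : Fin 8, ∀ b : Fin 15, tb Q8 i (b + 1) = fr chevE8 w8 (tb Q8 i b) := by
  intro i
  by_cases h1 : i.1 < 3
  · exact chk8_e0 i h1
  by_cases h2 : i.1 < 6
  · exact chk8_e1 i (by omega) h2
  · exact chk8_e2 i (by omega)

theorem chk8 : ChkT chevE8 8 [0, 1, 2, 3, 4, 5, 6, 7] 15 (tb P8) (tb Q8) :=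
  ⟨chk8_a, chk8_b, chk8_c, chk8_d, chk8_e, chk8_f⟩

end Cfsg.Agent.H346.DP
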