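import Cfsg.Agent.H31.TwoCyc.MSelf
import Cfsg.Agent.H199.AbMon
import Cfsg.Agent.H58.Cop.MSc
import Cfsg.Agent.H436.MonLoc
import Cfsg.Agent.H568.TriPair
import Cfsg.Agent.H241.NHMonD
import Cfsg.Agent.H773.Pw.Spor
import Cfsg.Agent.H847.MonDeg
import Cfsg.Agent.H966.RowM
import Cfsg.Agent.S0000
import Cfsg.Agent.S0205

/-!
# S2454, the Monster, `p = 41, 71` (helper346)

`card_cent_le` : `|C(x)| ≤ 15785128125` for `x` of order 41 or 71 in the Monster (no section analysis: all the facts on
the primes dividing `|C(x)|` are in the library, the rest is Sylow arithmetic).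

`pw_41_71` : `PW p 70 M` for `p = 41, 71`.
-/

set_option autoImplicit false
set_option maxRecDepth 100000

namespace Cfsg.Agent.H346.DP.MonCent

open Subgroup Cfsg
open Cfsg.Agent.BpSpor.MBigModel
open Cfsg.Agent.H199.NSmMon (Ev Big ev_of_even)

/-- `|M|` -/
abbrev NM : ℕ := 808017424794512875886459904961710757005754368000000000

theorem card_MG : Nat.card MG = NM := card_M

/-- elements of order `q` commuting with `x` -/
theorem exists_comm_of_dvd {G : Type*} [Group G] [Finite G] {x : G} {q : ℕ} (hq : q.Prime)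
    (h : q ∣ Nat.card (centralizer ({x} : Set G))) : ∃ y : G, orderOf y = q ∧ x * y = y * x := by
  have : Fact q.Prime := ⟨hq⟩
  obtain ⟨y, hy⟩ := exists_prime_orderOf_dvd_card' q h
  exact ⟨y, by rw [Subgroup.orderOf_coe, hy], (mem_centralizer_singleton_iff.1 y.2).symm⟩

theorem dvd_of_comm {G : Type*} [Group G] {x y : G} (h : x * y = y * x) :
    orderOf x ∣ Nat.card (centralizer ({y} : Set G)) :=
  Subgroup.orderOf_dvd_natCard _ (mem_centralizer_singleton_iff.2 h)

section main

variable {s : ℕ} {x : MG}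

/-- the primes which do not divide `|C(x)|` -/
theorem not_common (hs : s = 41 ∨ s = 71) (hx : orderOf x = s) {q : ℕ}
    (hq : q ∈ ([2, 11, 17, 19, 23, 29, 31, 47, 59] : List ℕ)) : ¬ q ∣ Nat.card (centralizer ({x} : Set MG)) := by
  have hfin := finite
  intro hd
  have hs4 : s ∈ ([29, 41, 59, 71] : List ℕ) := by rcases hs with rfl | rfl <;> simp
  have hs7 : s ∈ ([17, 23, 29, 41, 47, 59, 71] : List ℕ) := by rcases hs with rfl | rfl <;> simp
  simp only [List.mem_cons, List.not_mem_nil, or_false] at hq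
  have self : ∀ q ∈ ([17, 19, 23, 29, 31] : List ℕ), s ≠ q → q.Prime →
      ¬ q ∣ Nat.card (centralizer ({x} : Set MG)) := by
    intro q hq hsq hqp h
    obtain ⟨y, hy, hxy⟩ := exists_comm_of_dvd hqp h
    exact Cfsg.Agent.H31.TwoCyc.MSelf.not_comm hq hs7 hsq hx hy hxy
  rcases hq with rfl | rfl | rfl | rfl | rfl | rfl | rfl | rfl | rfl
  · have := Cfsg.Agent.H436.MonLoc.odd_card hs4 hx
    rw [← Nat.not_even_iff_odd, even_iff_two_dvd] at this
    exact this hd
  · obtain ⟨y, hy, hxy⟩ := exists_comm_of_dvd (by norm_num) hd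
    refine Cfsg.Agent.H199.AbMon.eleven_not_dvd (r := s) (by rcases hs with rfl | rfl <;> simp) hy ?_
    rw [← hx]
    exact dvd_of_comm hxy
  · exact self 17 (by simp) (by rcases hs with rfl | rfl <;> norm_num) (by norm_num) hd
  · exact self 19 (by simp) (by rcases hs with rfl | rfl <;> norm_num) (by norm_num) hd
  · exact self 23 (by simp) (by rcases hs with rfl | rfl <;> norm_num) (by norm_num) hd
  · exact self 29 (by simp) (by rcases hs with rfl | rfl <;> norm_num) (by norm_num) hd
  · exact self 31 (by simp) (by rcases hs with rfl | rfl <;> norm_num) (by norm_num) hd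
  · exact Cfsg.Agent.H436.MonLoc.not_dvd_47 hs4 hx hd
  · obtain ⟨y, hy, hxy⟩ := exists_comm_of_dvd (by norm_num) hd
    have h1 := (Cfsg.Agent.H58.Cop.M.norm_fiftynine (fun _ _ _ _ => Cfsg.Agent.S0000.result) hy).1
    have h2 := dvd_of_comm hxy
    rw [h1, hx] at h2
    rcases hs with rfl | rfl <;> norm_num at h2

/-- **13** -/
theorem not_thirteen (hs : s = 41 ∨ s = 71) (hx : orderOf x = s) :
    ¬ 13 ^ 3 ∣ Nat.card (centralizer ({x} : Set MG)) := by
  have hfin := finite
  intro hd
  have hsp : s.Prime := by rcases hs with rfl | rfl <;> norm_num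
  obtain ⟨u, Q, hu, only, q2, qx, qz, zQ, nc⟩ := Cfsg.Agent.H241.Mon.exists_thirteen
  have hu' : orderOf (u : MG) = 13 := by rw [Subgroup.orderOf_coe, hu]
  have hn : ¬ s ∣ Nat.card ↥(centralizer ({(u : MG)} : Set MG)) :=
    Cfsg.Agent.H241.NH.not_dvd_cent Cfsg.Agent.H241.Mon.z_order (by rw [hu']; decide)
      (mem_centralizer_singleton_iff.1 u.2).symm only q2 qx qz zQ nc hsp
      (by rw [card_MG]; rcases hs with rfl | rfl <;> norm_num)
      (Cfsg.Agent.H241.Mon.not_dvd_inf hu hsp (by rcases hs with rfl | rfl <;> norm_num)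
        (by rcases hs with rfl | rfl <;> norm_num))
  have h4 : ¬ 13 ∣ (centralizer ({x} : Set MG)).index := by
    intro h5
    have h6 := (centralizer ({x} : Set MG)).card_mul_index
    have h7 : 13 ^ 3 * 13 ∣ Nat.card MG := by
      rw [← h6]
      exact Nat.mul_dvd_mul hd h5
    rw [card_MG] at h7
    norm_num at h7
  obtain ⟨g, hg⟩ := Cfsg.Agent.H568.TriPair.exists_conj_comm (p := 13) (by norm_num) h4 (k := 1)
    (hu'.trans (pow_one 13).symm)
  apply hn
  have h8 : orderOf (g⁻¹ * x * g) = s := by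
    rw [← hx]
    have := MulEquiv.orderOf_eq (MulAut.conj g⁻¹) x
    rwa [MulAut.conj_apply, inv_inv] at this
  rw [← h8]
  apply dvd_of_comm
  calc g⁻¹ * x * g * (u : MG) = g⁻¹ * (x * (g * (u : MG) * g⁻¹)) * g := by group
    _ = g⁻¹ * ((g * (u : MG) * g⁻¹) * x) * g := by rw [hg]
    _ = (u : MG) * (g⁻¹ * x * g) := by group

theorem big_of (hs : s = 41 ∨ s = 71) : Big s := by
  rcases hs with rfl | rfl <;> unfold Big <;> simp

/-- **5** -/
theorem not_five (hs : s = 41 ∨ s = 71) (hx : orderOf x = s) :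
    ¬ 5 ^ 6 ∣ Nat.card (centralizer ({x} : Set MG)) := by
  have hfin := finite
  intro hd
  obtain ⟨g, y, hy, hyx, hyz⟩ := Cfsg.Agent.H199.NSmAbs.exists_common (G := MG) (p := 5) (n := 9) (a := 6) (b := 4)
    (by norm_num) (by rw [card_MG]; norm_num) hd (T := centralizer ({zz} : Set MG)) (by rw [card_cent_z]; norm_num)
    (by norm_num)
  have hev : Ev y := by
    refine ⟨g⁻¹, ?_⟩
    have h1 := mem_centralizer_singleton_iff.1 hyz
    calc g⁻¹ * zz * g⁻¹⁻¹ * y = g⁻¹ * (zz * (g * y * g⁻¹)) * g := by group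
      _ = g⁻¹ * ((g * y * g⁻¹) * zz) * g := by rw [h1]
      _ = y * (g⁻¹ * zz * g⁻¹⁻¹) := by group
  have hdv : s ∣ Nat.card ↥(centralizer ({y} : Set MG)) := by
    rw [← hx]
    exact dvd_of_comm (mem_centralizer_singleton_iff.1 hyx).symm
  rcases Cfsg.Agent.H199.AbMon.five' hy hev with h | h
  · rw [h] at hdv
    rcases hs with rfl | rfl <;> norm_num at hdv
  · exact h.1 s (big_of hs) hdv

/-- **3** -/
theorem not_three (hs : s = 41 ∨ s = 71) (hx : orderOf x = s) :
    ¬ 3 ^ 8 ∣ Nat.card (centralizer ({x} : Set MG)) := by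
  have hfin := finite
  intro hd
  obtain ⟨t, ht, -, hct, -⟩ := Cfsg.Agent.H241.Mon.exists_cov
  obtain ⟨g, y, hy, hyx, hyz⟩ := Cfsg.Agent.H199.NSmAbs.exists_common (G := MG) (p := 3) (n := 20) (a := 8) (b := 13)
    (by norm_num) (by rw [card_MG]; norm_num) hd (T := centralizer ({t} : Set MG)) (by rw [hct]; norm_num)
    (by norm_num)
  have hev : Ev y := by
    apply ev_of_even hy
    rw [Nat.not_odd_iff_even, even_iff_two_dvd]
    have h1 := mem_centralizer_singleton_iff.1 hyz
    have h2 : orderOf (g⁻¹ * t * g) = 2 := by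
      rw [← ht]
      have := MulEquiv.orderOf_eq (MulAut.conj g⁻¹) t
      rwa [MulAut.conj_apply, inv_inv] at this
    rw [← h2]
    apply dvd_of_comm
    calc g⁻¹ * t * g * y = g⁻¹ * (t * (g * y * g⁻¹)) * g := by group
      _ = g⁻¹ * ((g * y * g⁻¹) * t) * g := by rw [h1]
      _ = y * (g⁻¹ * t * g) := by group
  have hdv : s ∣ Nat.card ↥(centralizer ({y} : Set MG)) := by
    rw [← hx]
    exact dvd_of_comm (mem_centralizer_singleton_iff.1 hyx).symm
  rcases Cfsg.Agent.H199.NSmMon.three hy hev with h | h | h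
  · rw [h] at hdv
    rcases hs with rfl | rfl <;> norm_num at hdv
  · rw [h] at hdv
    rcases hs with rfl | rfl <;> norm_num at hdv
  · exact h s (big_of hs) hdv

theorem solvable_cent (hs : s = 41 ∨ s = 71) (hx : orderOf x = s) :
    Group.IsSolvable ↥(centralizer ({x} : Set MG)) := by
  have hfin := finite
  exact Cfsg.Agent.S0205.result
    (Cfsg.Agent.H436.MonLoc.odd_card (by rcases hs with rfl | rfl <;> simp) hx)

/-- `s = 71` : 3 -/
theorem not_three_71 (hx : orderOf x = 71) : ¬ 3 ∣ Nat.card (centralizer ({x} : Set MG)) := by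
  have hfin := finite
  intro h
  obtain ⟨y, hy, hxy⟩ := exists_comm_of_dvd Nat.prime_three h
  refine Cfsg.Agent.H199.NSmMon.three_not_dvd (r := 71) (by simp) hy ?_
  rw [← hx]
  exact dvd_of_comm hxy

/-- `s = 41` : 7 -/
theorem not_seven_41 (hx : orderOf x = 41) : ¬ 7 ∣ Nat.card (centralizer ({x} : Set MG)) := by
  have hfin := finite
  intro h
  obtain ⟨y, hy, hxy⟩ := exists_comm_of_dvd (by norm_num) h
  refine Cfsg.Agent.H199.AbMon.seven_not_dvd (r := 41) (by simp) hy ?_
  rw [← hx]
  exact dvd_of_comm hxy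

/-- `s = 41` : 3 and 71 -/
theorem not_three_and (hx : orderOf x = 41) (h3 : 3 ∣ Nat.card (centralizer ({x} : Set MG))) :
    ¬ 71 ∣ Nat.card (centralizer ({x} : Set MG)) := by
  have hfin := finite
  intro h71
  obtain ⟨y, hy, hxy⟩ := exists_comm_of_dvd (by norm_num) h71
  refine not_three_71 hy ?_
  have h1 := Cfsg.Agent.H199.NSmAbs.card_cent_of_solvable (G := MG) (p := 3) (r := 71) (n := 20) (by norm_num)
    (by norm_num) (by rw [card_MG]; norm_num) (by rw [card_MG]; norm_num) (by norm_num)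
    (by intro j h0 hj; interval_cases j <;> norm_num) (solvable_cent (Or.inl rfl) hx) hy
    (mem_centralizer_singleton_iff.2 hxy.symm) (k := 1) (by rw [pow_one]; exact h3) (by norm_num)
  rwa [pow_one] at h1

/-- `s = 71` : 7 and 41 -/
theorem not_seven_and (hx : orderOf x = 71) (h7 : 7 ∣ Nat.card (centralizer ({x} : Set MG))) :
    ¬ 41 ∣ Nat.card (centralizer ({x} : Set MG)) := by
  have hfin := finite
  intro h41
  obtain ⟨y, hy, hxy⟩ := exists_comm_of_dvd (by norm_num) h41
  refine not_seven_41 hy ?_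
  have h1 := Cfsg.Agent.H199.NSmAbs.card_cent_of_solvable (G := MG) (p := 7) (r := 41) (n := 6) (by norm_num)
    (by norm_num) (by rw [card_MG]; norm_num) (by rw [card_MG]; norm_num) (by norm_num)
    (by intro j h0 hj; interval_cases j <;> norm_num) (solvable_cent (Or.inr rfl) hx) hy
    (mem_centralizer_singleton_iff.2 hxy.symm) (k := 1) (by rw [pow_one]; exact h7) (by norm_num)
  rwa [pow_one] at h1

end main

/-! ### Arithmetic -/

theorem mem_primes {q : ℕ} (hq : q.Prime) (h : q ∣ NM) :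
    q ∈ ([2, 3, 5, 7, 11, 13, 17, 19, 23, 29, 31, 41, 47, 59, 71] : List ℕ) :=
  Cfsg.Agent.H58.Cop.M.mem_primes hq h

theorem fact_eq {n q k : ℕ} (hq : q.Prime) (hn : n ≠ 0) (h1 : q ^ k ∣ n) (h2 : ¬ q ^ (k + 1) ∣ n) :
    n.factorization q = k := by
  apply le_antisymm
  · by_contra h
    exact h2 ((hq.pow_dvd_iff_le_factorization hn).2 (by omega))
  · exact (hq.pow_dvd_iff_le_factorization hn).1 h1

theorem fact_lt {n q k : ℕ} (hq : q.Prime) (hn : n ≠ 0) (h2 : ¬ q ^ k ∣ n) : n.factorization q < k := by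
  by_contra h
  exact h2 ((hq.pow_dvd_iff_le_factorization hn).2 (by omega))

theorem eq_prod {n : ℕ} (hn : n ≠ 0) (T : Finset ℕ) (h : ∀ q, q.Prime → q ∣ n → q ∈ T) :
    n = ∏ q ∈ T, q ^ n.factorization q := by
  conv_lhs => rw [← Nat.factorization_prod_pow_eq_self hn]
  apply Finsupp.prod_of_support_subset
  · intro q hq
    rw [Nat.support_factorization, Nat.mem_primeFactors] at hq
    exact h q hq.1 hq.2.1
  · intro q _
    exact pow_zero q

/-- the bound -/
abbrev BD : ℕ := 15785128125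

/-- the divisors of 40 and 70 -/
theorem div40 : ∀ e < 41, 40 % e = 0 → e ≠ 1 → e ∈ ([2, 4, 5, 8, 10, 20, 40] : List ℕ) := by decide +kernel
theorem div70 : ∀ e < 71, 70 % e = 0 → e ≠ 1 → e ∈ ([2, 5, 7, 10, 14, 35, 70] : List ℕ) := by decide +kernel

set_option synthInstance.maxHeartbeats 400000 in
set_option synthInstance.maxSize 2000 in
theorem chk41 : ∀ a < 8, ∀ b < 6, ∀ d < 3, ∀ g < 2, ∀ e ∈ ([2, 4, 5, 8, 10, 20, 40] : List ℕ),
    (¬ (0 < a ∧ 0 < g) ∧ NM % (41 * (3 ^ a * (5 ^ b * (13 ^ d * 71 ^ g))) * e) = 0 ∧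
    NM / (41 * (3 ^ a * (5 ^ b * (13 ^ d * 71 ^ g))) * e) % 41 = 1) →
    41 * (3 ^ a * (5 ^ b * (13 ^ d * 71 ^ g))) ≤ BD := by
  decide +kernel

set_option synthInstance.maxHeartbeats 400000 in
set_option synthInstance.maxSize 2000 in
theorem chk71 : ∀ a < 7, ∀ b < 6, ∀ d < 3, ∀ g < 2, ∀ e ∈ ([2, 5, 7, 10, 14, 35, 70] : List ℕ),
    (¬ (0 < a ∧ 0 < g) ∧ NM % (71 * (7 ^ a * (5 ^ b * (13 ^ d * 41 ^ g))) * e) = 0 ∧
    NM / (71 * (7 ^ a * (5 ^ b * (13 ^ d * 41 ^ g))) * e) % 71 = 1) →
    71 * (7 ^ a * (5 ^ b * (13 ^ d * 41 ^ g))) ≤ BD := by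
  decide +kernel

theorem card_le_41 {x : MG} (hx : orderOf x = 41) : Nat.card (centralizer ({x} : Set MG)) ≤ BD := by
  have hfin := finite
  have hsim := simple
  set c := Nat.card (centralizer ({x} : Set MG)) with hc
  have hc0 : c ≠ 0 := Nat.card_pos.ne'
  have hcM : c ∣ NM := by
    have := Subgroup.card_subgroup_dvd_card (centralizer ({x} : Set MG))
    rwa [card_MG] at this
  have h41 : 41 ∣ c := by
    rw [← hx]
    exact Subgroup.orderOf_dvd_natCard _ (mem_centralizer_singleton_iff.2 rfl)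
  have hprimes : ∀ q, q.Prime → q ∣ c → q ∈ ({41, 3, 5, 13, 71} : Finset ℕ) := by
    intro q hq hd
    have h1 := mem_primes hq (hd.trans hcM)
    have h2 : q ∉ ([2, 11, 17, 19, 23, 29, 31, 47, 59] : List ℕ) := fun h => not_common (Or.inl rfl) hx h hd
    have h3 : q ≠ 7 := by
      rintro rfl
      exact not_seven_41 hx hd
    simp only [List.mem_cons, List.not_mem_nil, or_false, not_or] at h1 h2
    simp only [Finset.mem_insert, Finset.mem_singleton]
    omega
  have e41 : c.factorization 41 = 1 := fact_eq (by norm_num) hc0 (by rw [pow_one]; exact h41) fun h => by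
    have := h.trans hcM
    norm_num at this
  have e71 : c.factorization 71 < 2 := fact_lt (by norm_num) hc0 fun h => by
    have := h.trans hcM
    norm_num at this
  have e3 := fact_lt Nat.prime_three hc0 (not_three (Or.inl rfl) hx)
  have e5 := fact_lt Nat.prime_five hc0 (not_five (Or.inl rfl) hx)
  have e13 := fact_lt (q := 13) (by norm_num) hc0 (not_thirteen (Or.inl rfl) hx)
  have hf : ¬ (0 < c.factorization 3 ∧ 0 < c.factorization 71) := by
    rintro ⟨ha, hb⟩
    exact not_three_and hx ((Nat.Prime.dvd_iff_one_le_factorization Nat.prime_three hc0).2 ha)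
      ((Nat.Prime.dvd_iff_one_le_factorization (by norm_num) hc0).2 hb)
  have hcc : c = 41 * (3 ^ c.factorization 3 * (5 ^ c.factorization 5 * (13 ^ c.factorization 13 * 71 ^ c.factorization 71))) := by
    conv_lhs => rw [eq_prod hc0 _ hprimes]
    rw [Finset.prod_insert (by decide), Finset.prod_insert (by decide), Finset.prod_insert (by decide),
      Finset.prod_insert (by decide), Finset.prod_singleton, e41, pow_one]
  obtain ⟨e, he, he1, hN, h0, h1⟩ := Cfsg.Agent.H58.Cop.arith (s := 41) (by norm_num) hx (by rw [card_MG]; norm_num)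
    (by rw [card_MG]; norm_num)
  rw [← hc, card_MG] at h0 h1
  have he40 : e ≤ 40 := Nat.le_of_dvd (by norm_num) he
  have he' := div40 e (by omega) (Nat.mod_eq_zero_of_dvd he) he1
  have key := chk41 _ e3 _ e5 _ e13 _ e71 e he' ⟨hf, by rw [← hcc]; exact Nat.mod_eq_zero_of_dvd h0,
    by rw [← hcc]; exact h1⟩
  rwa [← hcc] at key

theorem card_le_71 {x : MG} (hx : orderOf x = 71) : Nat.card (centralizer ({x} : Set MG)) ≤ BD := by
  have hfin := finite
  have hsim := simple
  set c := Nat.card (centralizer ({x} : Set MG)) with hc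
  have hc0 : c ≠ 0 := Nat.card_pos.ne'
  have hcM : c ∣ NM := by
    have := Subgroup.card_subgroup_dvd_card (centralizer ({x} : Set MG))
    rwa [card_MG] at this
  have h71 : 71 ∣ c := by
    rw [← hx]
    exact Subgroup.orderOf_dvd_natCard _ (mem_centralizer_singleton_iff.2 rfl)
  have hprimes : ∀ q, q.Prime → q ∣ c → q ∈ ({71, 7, 5, 13, 41} : Finset ℕ) := by
    intro q hq hd
    have h1 := mem_primes hq (hd.trans hcM)
    have h2 : q ∉ ([2, 11, 17, 19, 23, 29, 31, 47, 59] : List ℕ) := fun h => not_common (Or.inr rfl) hx h hd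
    have h3 : q ≠ 3 := by
      rintro rfl
      exact not_three_71 hx hd
    simp only [List.mem_cons, List.not_mem_nil, or_false, not_or] at h1 h2
    simp only [Finset.mem_insert, Finset.mem_singleton]
    omega
  have e71 : c.factorization 71 = 1 := fact_eq (by norm_num) hc0 (by rw [pow_one]; exact h71) fun h => by
    have := h.trans hcM
    norm_num at this
  have e41 : c.factorization 41 < 2 := fact_lt (by norm_num) hc0 fun h => by
    have := h.trans hcM
    norm_num at this
  have e7 : c.factorization 7 < 7 := fact_lt (by norm_num) hc0 fun h => by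
    have := h.trans hcM
    norm_num at this
  have e5 := fact_lt Nat.prime_five hc0 (not_five (Or.inr rfl) hx)
  have e13 := fact_lt (q := 13) (by norm_num) hc0 (not_thirteen (Or.inr rfl) hx)
  have hf : ¬ (0 < c.factorization 7 ∧ 0 < c.factorization 41) := by
    rintro ⟨ha, hb⟩
    exact not_seven_and hx ((Nat.Prime.dvd_iff_one_le_factorization (by norm_num) hc0).2 ha)
      ((Nat.Prime.dvd_iff_one_le_factorization (by norm_num) hc0).2 hb)
  have hcc : c = 71 * (7 ^ c.factorization 7 * (5 ^ c.factorization 5 * (13 ^ c.factorization 13 * 41 ^ c.factorization 41))) := by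
    conv_lhs => rw [eq_prod hc0 _ hprimes]
    rw [Finset.prod_insert (by decide), Finset.prod_insert (by decide), Finset.prod_insert (by decide),
      Finset.prod_insert (by decide), Finset.prod_singleton, e71, pow_one]
  obtain ⟨e, he, he1, hN, h0, h1⟩ := Cfsg.Agent.H58.Cop.arith (s := 71) (by norm_num) hx (by rw [card_MG]; norm_num)
    (by rw [card_MG]; norm_num)
  rw [← hc, card_MG] at h0 h1
  have he70 : e ≤ 70 := Nat.le_of_dvd (by norm_num) he
  have he' := div70 e (by omega) (Nat.mod_eq_zero_of_dvd he) he1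
  have key := chk71 _ e7 _ e5 _ e13 _ e41 e he' ⟨hf, by rw [← hcc]; exact Nat.mod_eq_zero_of_dvd h0,
    by rw [← hcc]; exact h1⟩
  rwa [← hcc] at key

/-- **The centralizers of the elements of order 41 and 71 of the Monster.** -/
theorem card_cent_le {S : Type*} [Group S] (h : Spor.IsoM S) {s : ℕ} (hs : s = 41 ∨ s = 71) {x : S}
    (hx : orderOf x = s) : Nat.card (centralizer ({x} : Set S)) ≤ BD := by
  obtain ⟨e⟩ := h
  obtain ⟨f⟩ := Cfsg.Agent.MonsterP.Equiv.equiv
  let g := e.trans f
  have h1 : Nat.card (centralizer ({x} : Set S)) = Nat.card (centralizer ({g x} : Set MG)) := by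
    refine Nat.card_congr ⟨fun a => ⟨g a, ?_⟩, fun a => ⟨g.symm a, ?_⟩, fun a => Subtype.ext (g.symm_apply_apply _),
      fun a => Subtype.ext (g.apply_symm_apply _)⟩
    · rw [mem_centralizer_singleton_iff, ← map_mul, mem_centralizer_singleton_iff.1 a.2, map_mul]
    · rw [mem_centralizer_singleton_iff]
      apply g.injective
      rw [map_mul, map_mul, g.apply_symm_apply]
      exact mem_centralizer_singleton_iff.1 a.2
  have h2 : orderOf (g x) = s := by rw [MulEquiv.orderOf_eq, hx]
  rw [h1]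
  rcases hs with rfl | rfl
  · exact card_le_41 h2
  · exact card_le_71 h2

/-! ### The row -/

open Cfsg.Agent.H514.DP Cfsg.Agent.H773.Pw

/-- the degrees -/
theorem minDeg_mon : MinDeg Spor.Monster 196883 := by
  intro k ρ hρ hk
  have h := Cfsg.Agent.H847.MonDeg.bound ρ (Cfsg.Agent.H121.Chr.exists_ne_one ρ hρ hk)
  rwa [Module.finrank_fintype_fun_eq_card, Fintype.card_fin] at h

/-- **S2454, the Monster, `p = 41, 71`.** -/
theorem pw_mon {p : ℕ} (hp : p = 41 ∨ p = 71) : PW p 70 Spor.Monster := by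
  have hfin := Cfsg.Agent.H966.RowM.finite_m
  have hsim := Cfsg.Agent.H966.RowM.simple_m
  have hcard : Nat.card Spor.Monster = NM := Cfsg.Agent.H966.RowM.card_m
  have hna : ¬ ∀ a b : Spor.Monster, a * b = b * a :=
    H253.TC.not_comm_of_card hcard (by norm_num) (p := 59) (by norm_num) (by norm_num) (by norm_num)
  have hpp : p.Prime := by rcases hp with rfl | rfl <;> norm_num
  obtain ⟨x, hx⟩ := exists_order (K := Spor.Monster) hpp (by rw [hcard]; rcases hp with rfl | rfl <;> norm_num)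
  have hpe : IsPE p x := ⟨1, by rw [pow_one, ← hx, pow_orderOf_eq_one]⟩
  exact pw_of_pe hna hpe.pe minDeg_mon (card_cent_le ⟨MulEquiv.refl _⟩ hp hx) (k := 70) (by norm_num) (by norm_num)
    (by norm_num)

/-- **S2454, the Monster, `p = 41, 71`.** -/
theorem pw_41_71 {S : Type*} [Group S] (h : Spor.IsoM S) {p : ℕ} (hp : p = 41 ∨ p = 71) : PW p 70 S := by
  obtain ⟨e⟩ := h
  exact (pw_mon hp).congr e.symm

end Cfsg.Agent.H346.DP.MonCent
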