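import Mathlib
import Cfsg.Agent.H346.DP.Node

/-!
Levi subgroups: perfectness, the window `SL₃(2)`, and Gow's theorem in minimal Levi subgroups (S2454).
-/

set_option autoImplicit false
set_option linter.unusedSectionVars false

namespace Cfsg.Agent.H346.DP

open CoxeterSystem Cfsg.Agent.ChevalleyStructure.CoxeterGeom Cfsg.Agent.Tits.Roots Cfsg.Agent.Tits.Core
  Cfsg.Agent.Tits.RootComb Cfsg.Agent.Nodes.Comb Cfsg.Agent.Nodes.Reps
  Cfsg.Agent.Nodes.BNOf Cfsg.Agent.Nodes.StabComb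
  Cfsg.Agent.Nodes.RGDLib Cfsg.Agent.Nodes.Bruhat Cfsg.Agent.Nodes.OppDec
open Cfsg.Agent.Tits.Exchange hiding nn
open Cfsg.Agent.OddHalf.NI.Mult (Coord rp_nn nn_mul_lo up lo nn dg)
open Cfsg.Agent.H514.DP (PE IsPE)
open Cfsg.Agent.H53.HC (MJ)
open Cfsg.Agent.H175.DP (dc coe_dc corner coe_corner)
open Cfsg.Agent.KFacts.RgdBorelTits (Filt)
open Matrix
open scoped commutatorElement

variable {I W Y : Type*} [Fintype I] [DecidableEq I] [Group W] [Group Y] {M : CoxeterMatrix I}
  {cs : CoxeterSystem M W} {A : I → I → ℤ} {h : IsCartan M A} {r : ℕ} {T : Subgroup Y} {n : I → Y}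
  {X : (I → ℤ) → Subgroup Y}

theorem zo : (0 : Fin 3) ≠ 1 := by decide

theorem oz : (1 : Fin 3) ≠ 0 := by decide

/-- the group `SL₃` of two nodes joined by a simple bond -/
theorem exists_sl3 [Finite W] [Finite Y] (R : RGD cs h r T n X) {i j : I} (hij : M i j = 3) :
    ∃ (F' : Type) (_ : Field F') (_ : Fintype F') (φ : SpecialLinearGroup (Fin 3) F' →* Y),
      (X (sr i) : Set Y) = Set.range (fun t => φ (SpecialLinearGroup.transvection zo t)) ∧
      (X (-sr i) : Set Y) = Set.range (fun t => φ (SpecialLinearGroup.transvection oz t)) ∧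
      φ.ker ≤ Subgroup.center (SpecialLinearGroup (Fin 3) F') ∧ φ.range = MJ cs h X {i, j} := by
  have hne : i ≠ j := by
    rintro rfl
    rw [M.diagonal] at hij
    omega
  let k : Fin 2 ↪ I := ⟨![i, j], by
    intro a b hab
    fin_cases a <;> fin_cases b
    · rfl
    · exact absurd hab hne
    · exact absurd hab hne.symm
    · rfl⟩
  have hk : ∀ a b, M (k a) (k b) = Cfsg.Agent.LieRecognition.BNCox.cA 2 a b := by
    intro a b
    fin_cases a <;> fin_cases b
    · change M i i = _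
      rw [M.diagonal]; rfl
    · change M i j = _
      rw [hij]; rfl
    · change M j i = _
      rw [M.symmetric, hij]; rfl
    · change M j j = _
      rw [M.diagonal]; rfl
  obtain ⟨F', i1, i2, φ, C⟩ := H622.Levi.exists_co R le_rfl k hk
  have h1 : H622.Levi.cr k 0 1 = sr i := H622.Levi.cr_succ k 0
  have h2 : H622.Levi.cr k 1 0 = -sr i := by rw [← h1, H622.Levi.cr_neg]
  have h3 : Set.range k = {i, j} := by
    ext x
    constructor
    · rintro ⟨a, rfl⟩
      fin_cases a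
      · exact Or.inl rfl
      · exact Or.inr rfl
    · rintro (rfl | rfl)
      · exact ⟨0, rfl⟩
      · exact ⟨1, rfl⟩
  refine ⟨F', i1, i2, φ, ?_, ?_, C.ker, ?_⟩
  · rw [← h1]
    exact C.root 0 1 zo
  · rw [← h2]
    exact C.root 1 0 oz
  · rw [← h3]
    exact C.range (cs := cs) (h := h) hk (by omega)

theorem commutator_range {G : Type*} [Group G] (φ : G →* Y) (hG : commutator G = ⊤) : ⁅φ.range, φ.range⁆ = φ.range := by
  rw [MonoidHom.range_eq_map, ← Subgroup.map_commutator, ← commutator_def, hG]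

section perfect

variable {F : I → Type*} [∀ i, Field (F i)] {s : ∀ i, Matrix.SpecialLinearGroup (Fin 2) (F i) →* Y}

/-- a Levi subgroup is perfect if the commutator subgroup contains the simple root groups -/
theorem mj_perfect_of [Finite W] (R : RGD cs h r T n X) (hn : ∀ i, n i ∈ X (sr i) ⊔ X (-sr i))
    {J : Set I} (hJ : ∀ j ∈ J, X (sr j) ≤ ⁅MJ cs h X J, MJ cs h X J⁆) :
    ⁅MJ cs h X J, MJ cs h X J⁆ = MJ cs h X J := by
  refine le_antisymm (Subgroup.commutator_le.2 fun a ha b hb => ?_)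
    (MJ_le_of_simple R hn (normalizer_comm _) hJ)
  rw [commutatorElement_def]
  exact mul_mem (mul_mem (mul_mem ha hb) (inv_mem ha)) (inv_mem hb)

/-- an element acting nontrivially on the rank one group -/
theorem X_le_of_act (C : Coord X F s) {J : Set I} {j : I} (hj : j ∈ J) {z : Y} (hz : z ∈ MJ cs h X J) {μ : (F j)ˣ}
    (hμ : μ ≠ 1) (hza : ∀ g, z * s j g * z⁻¹ = s j (dc μ g)) : X (sr j) ≤ ⁅MJ cs h X J, MJ cs h X J⁆ := by
  intro x hx
  obtain ⟨a, rfl⟩ := C.exists_up hx
  have h2 : (μ : F j) - 1 ≠ 0 := fun h3 => hμ (Units.ext (by rw [Units.val_one]; exact sub_eq_zero.1 h3))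
  have h3 : s j (up a) = ⁅z, s j (up (a / ((μ : F j) - 1)))⁆ := by
    have h4 : dc μ (up (a / ((μ : F j) - 1))) = up ((μ : F j) * (a / ((μ : F j) - 1))) := by
      apply Subtype.ext
      rw [coe_dc]
      simp only [OddHalf.NI.Mult.coe_up]
      ext b c
      fin_cases b <;> fin_cases c <;> simp
    rw [commutatorElement_def, hza, h4, ← map_inv, ← map_mul, ← OddHalf.NI.Mult.up_neg, ← OddHalf.NI.Mult.up_add]
    congr 2
    field_simp
    ring
  rw [h3]
  exact Subgroup.commutator_mem_commutator hz (KK_le_MJ hj (mem_KK C j _))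

/-- a field with at least four elements -/
theorem X_le_of_four (C : Coord X F s) {J : Set I} {j : I} (hj : j ∈ J) (h4 : 4 ≤ Nat.card (F j)) :
    X (sr j) ≤ ⁅MJ cs h X J, MJ cs h X J⁆ := by
  obtain ⟨u, hu⟩ := exists_sq_ne_one h4
  intro x hx
  obtain ⟨a, rfl⟩ := C.exists_up hx
  have h2 : (u : F j) ^ 2 - 1 ≠ 0 := fun h3 => hu (Units.ext (by
    rw [Units.val_pow_eq_pow_val, Units.val_one]; exact sub_eq_zero.1 h3))
  have h3 : up a = ⁅dg u, up (a / ((u : F j) ^ 2 - 1))⁆ := by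
    rw [commutatorElement_def, OddHalf.NI.Mult.dg_mul_up, ← OddHalf.NI.Mult.up_neg, ← OddHalf.NI.Mult.up_add]
    congr 1
    field_simp
    ring
  rw [h3, map_commutatorElement]
  exact Subgroup.commutator_mem_commutator (KK_le_MJ hj (mem_KK C j _)) (KK_le_MJ hj (mem_KK C j _))

/-- a node joined to another one by a simple bond -/
theorem X_le_of_three [Finite W] [Finite Y] (R : RGD cs h r T n X) {J : Set I} {j k : I} (hj : j ∈ J) (hk : k ∈ J)
    (hjk : M j k = 3) : X (sr j) ≤ ⁅MJ cs h X J, MJ cs h X J⁆ := by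
  obtain ⟨F', i1, i2, φ, e1, e2, e3, e4⟩ := exists_sl3 R hjk
  have h1 : ⁅φ.range, φ.range⁆ = φ.range :=
    commutator_range φ (LieClassical.SLGen.commutator_eq_top (by rw [Fintype.card_fin]))
  have h2 : X (sr j) ≤ φ.range := by
    rw [e4]
    exact X_le_MJ (Or.inl rfl)
  have h3 : φ.range ≤ MJ cs h X J := by
    rw [e4]
    refine MJ_mono ?_
    rintro x (rfl | rfl)
    · exact hj
    · exact hk
  calc X (sr j) ≤ φ.range := h2
    _ = ⁅φ.range, φ.range⁆ := h1.symm
    _ ≤ ⁅MJ cs h X J, MJ cs h X J⁆ := Subgroup.commutator_mono h3 h3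

/-- **Levi subgroups are perfect.** -/
theorem mj_perfect [Finite W] [Finite Y] (R : RGD cs h r T n X) (hn : ∀ i, n i ∈ X (sr i) ⊔ X (-sr i))
    (C : Coord X F s) {J : Set I} (hJ : ∀ j ∈ J, 4 ≤ Nat.card (F j) ∨ ∃ k ∈ J, M j k = 3) :
    ⁅MJ cs h X J, MJ cs h X J⁆ = MJ cs h X J := by
  refine mj_perfect_of R hn fun j hj => ?_
  rcases hJ j hj with h1 | ⟨k, hk, hjk⟩
  · exact X_le_of_four C hj h1
  · exact X_le_of_three R hj hk hjk

/-- **Levi subgroups are perfect**, with a further kind of nodes. -/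
theorem mj_perfect' [Finite W] [Finite Y] (R : RGD cs h r T n X) (hn : ∀ i, n i ∈ X (sr i) ⊔ X (-sr i))
    (C : Coord X F s) {J : Set I} (hJ : ∀ j ∈ J, 4 ≤ Nat.card (F j) ∨ (∃ k ∈ J, M j k = 3) ∨
      ∃ z ∈ MJ cs h X J, ∃ μ : (F j)ˣ, μ ≠ 1 ∧ ∀ g, z * s j g * z⁻¹ = s j (dc μ g)) :
    ⁅MJ cs h X J, MJ cs h X J⁆ = MJ cs h X J := by
  refine mj_perfect_of R hn fun j hj => ?_
  rcases hJ j hj with h1 | ⟨k, hk, hjk⟩ | ⟨z, hz, μ, hμ, hza⟩
  · exact X_le_of_four C hj h1
  · exact X_le_of_three R hj hk hjk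
  · exact X_le_of_act C hj hz hμ hza

end perfect

/-! ### the window `SL₃(2)` -/

section window

theorem two_elts {K : Type*} [Field K] (hK : Nat.card K = 2) (t : K) : t = 0 ∨ t = 1 := by
  classical
  have : Finite K := Nat.finite_of_card_ne_zero (by omega)
  have := Fintype.ofFinite K
  rw [Nat.card_eq_fintype_card] at hK
  by_contra hcon
  push Not at hcon
  have h1 : ({0, 1, t} : Finset K).card = 3 := by
    rw [Finset.card_eq_three]
    exact ⟨0, 1, t, zero_ne_one, hcon.1.symm, hcon.2.symm, rfl⟩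
  have h2 := Finset.card_le_univ ({0, 1, t} : Finset K)
  omega

theorem units_of_two {K : Type*} [Field K] (hK : Nat.card K = 2) (u : Kˣ) : u = 1 := by
  rcases two_elts hK (u : K) with h1 | h1
  · exact absurd h1 u.ne_zero
  · exact Units.ext h1

theorem neg_one_of_two {K : Type*} [Field K] (hK : Nat.card K = 2) : (-1 : K) = 1 := by
  rcases two_elts hK (-1 : K) with h1 | h1
  · exact absurd h1 (neg_ne_zero.2 one_ne_zero)
  · exact h1

theorem nn_eq {K : Type*} [Field K] : (nn 1 : SpecialLinearGroup (Fin 2) K) = up 1 * lo (-1) * up 1 := by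
  rw [OddHalf.NI.Mult.nn_eq]
  simp

theorem corner_up {K : Type*} [Field K] (t : K) : corner K (up t) = SpecialLinearGroup.transvection zo t := by
  apply Subtype.ext
  rw [coe_corner]
  ext b c
  fin_cases b <;> fin_cases c <;> simp [SpecialLinearGroup.transvection, Matrix.transvection, Matrix.single]

theorem corner_lo {K : Type*} [Field K] (t : K) : corner K (lo t) = SpecialLinearGroup.transvection oz t := by
  apply Subtype.ext
  rw [coe_corner]
  ext b c
  fin_cases b <;> fin_cases c <;> simp [SpecialLinearGroup.transvection, Matrix.transvection, Matrix.single]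

theorem transvection_central {K : Type*} [Field K] {t : K}
    (hc : SpecialLinearGroup.transvection zo t ∈ Subgroup.center (SpecialLinearGroup (Fin 3) K)) : t = 0 := by
  have h1 := Subgroup.mem_center_iff.1 hc (SpecialLinearGroup.transvection oz 1)
  rw [← corner_up, ← corner_lo, ← map_mul, ← map_mul] at h1
  have h2 := congrArg (fun g : SpecialLinearGroup (Fin 3) K => (g : Matrix (Fin 3) (Fin 3) K) 0 0) h1
  simp only [coe_corner] at h2
  rw [Matrix.SpecialLinearGroup.coe_mul, Matrix.SpecialLinearGroup.coe_mul] at h2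
  simp only [OddHalf.NI.Mult.coe_up, OddHalf.NI.Mult.coe_lo, Matrix.mul_fin_two] at h2
  simpa using h2

variable {F : I → Type*} [∀ i, Field (F i)] {s : ∀ i, Matrix.SpecialLinearGroup (Fin 2) (F i) →* Y}

theorem up_one_ne [Finite W] (R : RGD cs h r T n X) (C : Coord X F s) {i : I} (h2 : Nat.card (F i) = 2) :
    s i (up 1) ≠ 1 := by
  intro h1
  apply X_ne_bot R (isRoot_sr cs h i)
  rw [eq_bot_iff]
  intro x hx
  obtain ⟨a, rfl⟩ := C.exists_up hx
  rcases two_elts h2 a with rfl | rfl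
  · have : (up (0 : F i)) = 1 := OddHalf.NI.Mult.up_zero
    rw [this, map_one]
    exact one_mem _
  · rw [h1]
    exact one_mem _

theorem lo_one_ne [Finite W] (R : RGD cs h r T n X) (C : Coord X F s) {i : I} (h2 : Nat.card (F i) = 2) :
    s i (lo 1) ≠ 1 := by
  intro h1
  apply X_ne_bot R (isRoot_sr cs h i).neg
  rw [eq_bot_iff]
  intro x hx
  obtain ⟨a, rfl⟩ := C.exists_lo hx
  rcases two_elts h2 a with rfl | rfl
  · have : (lo (0 : F i)) = 1 := OddHalf.NI.Mult.lo_zero
    rw [this, map_one]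
    exact one_mem _
  · rw [h1]
    exact one_mem _

/-- **The window `SL₃(2)`.** -/
theorem window [Finite W] [Finite Y] (R : RGD cs h r T n X) (C : Coord X F s) {i j : I} (hij : M i j = 3)
    (h2 : Nat.card (F i) = 2) (t : F i) :
    ∃ z ∈ MJ cs h X {i, j}, ∃ w ∈ MJ cs h X {i, j}, orderOf z = 3 ∧
      s i (up t * nn 1) = z * (w * z⁻¹ * w⁻¹) := by
  obtain ⟨F', i1, i2, φ, e1, e2, e3, e4⟩ := exists_sl3 R hij
  have hfi : Finite (F i) := Nat.finite_of_card_ne_zero (by omega)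
  -- the field `F'` has two elements
  have hinj : Function.Injective fun t : F' => φ (SpecialLinearGroup.transvection zo t) := by
    intro a b hab
    have h1 : φ (SpecialLinearGroup.transvection zo (a - b)) = 1 := by
      have h3 : SpecialLinearGroup.transvection zo (a - b) =
          SpecialLinearGroup.transvection zo a * (SpecialLinearGroup.transvection zo b)⁻¹ := by
        rw [← corner_up, ← corner_up, ← corner_up, ← map_inv, ← map_mul]
        congr 1
        rw [sub_eq_add_neg, OddHalf.NI.Mult.up_add, OddHalf.NI.Mult.up_neg]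
      rw [h3, map_mul, map_inv]
      change φ _ = φ _ at hab
      rw [hab, mul_inv_cancel]
    exact sub_eq_zero.1 (transvection_central (e3 h1))
  have hF' : Nat.card F' = 2 := by
    have h1 : Nat.card F' = Nat.card (X (sr i)) := by
      have h3 : Nat.card (Set.range fun t : F' => φ (SpecialLinearGroup.transvection zo t)) = Nat.card F' :=
        Nat.card_range_of_injective hinj
      rw [← h3, ← e1]
      rfl
    have h3 : Nat.card (X (sr i)) ≤ 2 := by
      rw [← h2]
      refine Nat.card_le_card_of_surjective (fun a : F i => (⟨s i (up a), C.mem_up i a⟩ : X (sr i))) ?_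
      rintro ⟨x, hx⟩
      obtain ⟨a, ha⟩ := C.exists_up hx
      exact ⟨a, Subtype.ext ha⟩
    have h4 : 2 ≤ Nat.card F' := by
      rw [Nat.card_eq_fintype_card]
      exact Fintype.one_lt_card
    omega
  have hch : CharP F' 2 := by
    have h3 : (2 : F') = 0 := by
      have h4 := neg_one_of_two hF'
      have h5 : (1 : F') + 1 = 0 := by
        nth_rewrite 1 [← h4]
        exact neg_add_cancel 1
      rw [← h5]
      norm_num
    exact CharTwo.of_one_ne_zero_of_two_eq_zero one_ne_zero h3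
  have u1 : s i (up 1) = φ (corner F' (up 1)) := by
    have h3 : s i (up 1) ∈ (X (sr i) : Set Y) := C.mem_up i 1
    rw [e1] at h3
    obtain ⟨a, ha⟩ := h3
    rcases two_elts hF' a with rfl | rfl
    · exfalso
      apply up_one_ne R C h2
      rw [← ha]
      change φ (SpecialLinearGroup.transvection zo 0) = 1
      rw [← corner_up]
      have : (up (0 : F')) = 1 := OddHalf.NI.Mult.up_zero
      rw [this, map_one, map_one]
    · rw [corner_up]
      exact ha.symm
  have l1 : s i (lo 1) = φ (corner F' (lo 1)) := by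
    have h3 : s i (lo 1) ∈ (X (-sr i) : Set Y) := C.mem_lo i 1
    rw [e2] at h3
    obtain ⟨a, ha⟩ := h3
    rcases two_elts hF' a with rfl | rfl
    · exfalso
      apply lo_one_ne R C h2
      rw [← ha]
      change φ (SpecialLinearGroup.transvection oz 0) = 1
      rw [← corner_lo]
      have : (lo (0 : F')) = 1 := OddHalf.NI.Mult.lo_zero
      rw [this, map_one, map_one]
    · rw [corner_lo]
      exact ha.symm
  have n1 : s i (nn 1) = φ (corner F' (nn 1)) := by
    rw [nn_eq, nn_eq, neg_one_of_two h2, neg_one_of_two hF', map_mul, map_mul, map_mul, map_mul, map_mul, map_mul,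
      u1, l1]
  have key : ∃ t' : F', (t' = 0 ∨ t' = 1) ∧ s i (up t * nn 1) = φ (corner F' (up t' * nn 1)) := by
    rcases two_elts h2 t with rfl | rfl
    · refine ⟨0, Or.inl rfl, ?_⟩
      have a1 : (up (0 : F')) = 1 := OddHalf.NI.Mult.up_zero
      have a2 : (up (0 : F i)) = 1 := OddHalf.NI.Mult.up_zero
      rw [a1, a2, one_mul, one_mul, n1]
    · refine ⟨1, Or.inr rfl, ?_⟩
      rw [map_mul, u1, n1, ← map_mul, ← map_mul]
  obtain ⟨t', ht', e⟩ := key
  obtain ⟨z, w, hz, hzw⟩ := H175.DP.exists_three_corner ht' (coe_up_nn t')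
  have hy := nodes_noncentral R C i t
  refine ⟨φ z, by rw [← e4]; exact ⟨z, rfl⟩, φ w, by rw [← e4]; exact ⟨w, rfl⟩, ?_, ?_⟩
  · have : Fact (Nat.Prime 3) := ⟨Nat.prime_three⟩
    have hz3 : z ^ 3 = 1 := orderOf_dvd_iff_pow_eq_one.1 (dvd_of_eq hz)
    refine orderOf_eq_prime (by rw [← map_pow, hz3, map_one]) fun h3 => ?_
    obtain ⟨g, -, hg⟩ := hy
    apply hg
    rw [e, hzw, map_mul, map_mul, map_mul, map_inv, map_inv, h3]
    group
  · rw [e, hzw, map_mul, map_mul, map_mul, map_inv, map_inv]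

end window

/-! ### minimal Levi subgroups -/

/-- the standing hypotheses of `levi_gow` -/
structure LevMin (cs : CoxeterSystem M W) (h : IsCartan M A) (X : (I → ℤ) → Subgroup Y) (J : Set I) (p : ℕ) :
    Prop where
  ne : J.Nonempty
  conn : ∀ K ⊆ J, K.Nonempty → K ≠ J → ∃ a ∈ K, ∃ b ∈ J, b ∉ K ∧ M a b ≠ 2
  dvd : p ∣ Nat.card (MJ cs h X J)
  min : ∀ K, K ⊂ J → ¬ p ∣ Nat.card (MJ cs h X K)

theorem exists_levMin [Finite Y] [Finite W] [Fact r.Prime] (R : RGD cs h r T n X) (hG : G1 cs h X = ⊤) {p : ℕ}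
    (hp : p.Prime) (hd : p ∣ Nat.card Y) : ∃ J : Set I, LevMin cs h X J p := by
  obtain ⟨J, h1, h2, h3, h4⟩ := H175.DP.exists_min R hG hp hd
  exact ⟨J, h1, h4, h2, h3⟩

section levmin

variable {F : I → Type*} [∀ i, Field (F i)] {s : ∀ i, Matrix.SpecialLinearGroup (Fin 2) (F i) →* Y}

/-- an element acting nontrivially on the rank one group is not central -/
theorem act_noncentral [Finite W] (R : RGD cs h r T n X) (C : Coord X F s) {i : I} {z : Y} {μ : (F i)ˣ} (hμ : μ ≠ 1)
    (hz : ∀ g, z * s i g * z⁻¹ = s i (dc μ g)) : ∃ g, z * s i g ≠ s i g * z := by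
  by_contra hcon
  push Not at hcon
  have h1 : ∀ g, s i (dc μ g * g⁻¹) = 1 := by
    intro g
    rw [map_mul, ← hz, hcon, map_inv]
    group
  have h2 : ∀ t : F i, s i (up t * nn 1) = 1 := by
    intro t
    obtain ⟨g, k, e⟩ := H175.DP.exists_comm μ hμ _ (up_nn_nonscalar t)
    rw [e, map_mul, map_mul, h1, mul_one, ← map_mul, mul_inv_cancel, map_one]
  obtain ⟨g, -, hg⟩ := nodes_noncentral R C i (0 : F i)
  apply hg
  rw [h2 0, one_mul, mul_one]

/-- **Gow's theorem in a minimal Levi subgroup**, nodes of `J`. -/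
theorem LevMin.nodeP [Finite W] [Finite Y] [Fact r.Prime] {R : RGD cs h r T n X}
    (hT : ∀ a ∈ T, ∀ b ∈ T, a * b = b * a) (hn : ∀ i, n i ∈ X (sr i) ⊔ X (-sr i))
    {Fl : (I → ℤ) → ℝ → Subgroup Y} (hF : Filt R Fl) (C : Coord X F s) {J : Set I} {p : ℕ}
    (L : LevMin cs h X J p) (hperf : ⁅MJ cs h X J, MJ cs h X J⁆ = MJ cs h X J) (hp : p.Prime) (hpr : p ≠ r)
    (hpT : ¬ p ∣ Nat.card T) {i : I} (hi : i ∈ J) {z : Y} (hz : z ∈ MJ cs h X J) (hzr : ¬ r ∣ orderOf z)
    {μ : (F i)ˣ} (hμ : μ ≠ 1) (hza : ∀ g, z * s i g * z⁻¹ = s i (dc μ g)) : NodeP X p 4 i := by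
  obtain ⟨g, hg⟩ := act_noncentral R C hμ hza
  obtain ⟨ζ, hζ, hζc, hPE⟩ := H169.DP.levi_gow R hT hn hF J L.ne L.conn hperf hp hpr L.dvd L.min hpT hz hzr
    ⟨s i g, KK_le_MJ hi (mem_KK C i g), hg⟩
  refine NodeP.of_act C hμ (z := z * ζ) (m := 2) (fun g => ?_) hPE
  have h1 := hζc (s i g) (KK_le_MJ hi (mem_KK C i g))
  calc z * ζ * s i g * (z * ζ)⁻¹ = z * (ζ * s i g) * ζ⁻¹ * z⁻¹ := by group
    _ = z * s i g * z⁻¹ := by rw [h1]; group
    _ = _ := hza g

/-- **The window in a minimal Levi subgroup**, fields with two elements. -/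
theorem LevMin.nodeP_two [Finite W] [Finite Y] [Fact r.Prime] {R : RGD cs h r T n X}
    (hT : ∀ a ∈ T, ∀ b ∈ T, a * b = b * a) (hn : ∀ i, n i ∈ X (sr i) ⊔ X (-sr i))
    {Fl : (I → ℤ) → ℝ → Subgroup Y} (hF : Filt R Fl) (C : Coord X F s) {J : Set I} {p : ℕ}
    (L : LevMin cs h X J p) (hperf : ⁅MJ cs h X J, MJ cs h X J⁆ = MJ cs h X J) (hp : p.Prime) (hpr : p ≠ r)
    (hpT : ¬ p ∣ Nat.card T) {i j : I} (hi : i ∈ J) (hj : j ∈ J) (hij : M i j = 3) (h2 : Nat.card (F i) = 2)
    (hr3 : r ≠ 3) : NodeP X p 4 i := by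
  refine NodeP.of_nodes_two C (units_of_two h2) fun t => ?_
  obtain ⟨z, hz, w, hw, ho, e⟩ := window R C hij h2 t
  have hle : MJ cs h X {i, j} ≤ MJ cs h X J := MJ_mono (by
    rintro x (rfl | rfl)
    · exact hi
    · exact hj)
  have hzr : ¬ r ∣ orderOf z := by
    rw [ho]
    intro h3
    exact hr3 ((Nat.prime_dvd_prime_iff_eq Fact.out Nat.prime_three).1 h3)
  obtain ⟨g, -, hg⟩ := nodes_noncentral R C i t
  have hzc : ∃ g ∈ MJ cs h X J, z * g ≠ g * z := by
    refine ⟨w, hle hw, fun h3 => hg ?_⟩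
    have h4 : s i (up t * nn 1) = 1 := by
      rw [e]
      calc z * (w * z⁻¹ * w⁻¹) = (z * w) * z⁻¹ * w⁻¹ := by group
        _ = 1 := by rw [h3]; group
    rw [h4, one_mul, mul_one]
  obtain ⟨ζ, hζ, hζc, hPE⟩ := H169.DP.levi_gow R hT hn hF J L.ne L.conn hperf hp hpr L.dvd L.min hpT (hle hz) hzr hzc
  have h1 := hζc w (hle hw)
  have h3 : s i (up t * nn 1) = (z * ζ) * (w * (z * ζ)⁻¹ * w⁻¹) := by
    rw [e]
    calc z * (w * z⁻¹ * w⁻¹) = z * w * ζ * ζ⁻¹ * z⁻¹ * w⁻¹ := by group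
      _ = z * (w * ζ) * ζ⁻¹ * z⁻¹ * w⁻¹ := by group
      _ = z * (ζ * w) * ζ⁻¹ * z⁻¹ * w⁻¹ := by rw [h1]
      _ = _ := by group
  rw [h3]
  exact hPE.mul (hPE.inv.conj w)

/-- `p = 3` and fields with two elements -/
theorem nodeP_three [Finite W] [Finite Y] {R : RGD cs h r T n X} (C : Coord X F s) {i j : I} (hij : M i j = 3)
    (h2 : Nat.card (F i) = 2) : NodeP X 3 2 i := by
  refine NodeP.of_nodes_two C (units_of_two h2) fun t => ?_
  obtain ⟨z, hz, w, hw, ho, e⟩ := window R C hij h2 t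
  have h3 : IsPE 3 z := IsPE.of_prime ho
  rw [e]
  exact h3.pe.mul (h3.pe.inv.conj w)

end levmin

end Cfsg.Agent.H346.DP
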