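import Mathlib
import Cfsg.Agent.H346.DP.Lev
import Cfsg.Agent.H346.DP.ChevGlue
import Cfsg.Agent.H169.DP.Act
import Cfsg.Agent.KFacts.RgdFiltChev
import Cfsg.Agent.S0242
import Cfsg.Agent.H35.ExcIdx

/-!
The nodes of the Chevalley groups `D.group K` (S2454).

* `hc_conj_sl` : the action of `hc hp j λ` on `sl hp i`;
* `not_dvd_TT` : `p ∤ q - 1` implies `p ∤ |T|`; `not_dvd_MJ_singleton` : `p ∤ q (q ^ 2 - 1)` implies `p ∤ |MJ {i}|`;
* `nodeP_torus` : `p ∣ q - 1`;
* `nodeP_sl` : **simply laced diagrams**, all nodes are products of four `p`-elements.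
-/

set_option autoImplicit false
set_option linter.unusedSectionVars false

namespace Cfsg.Agent.H346.DP

open CoxeterSystem Cfsg.Agent.ChevalleyStructure.CoxeterGeom Cfsg.Agent.Tits.Roots Cfsg.Agent.Tits.Core
  Cfsg.Agent.Tits.RootComb Cfsg.Agent.Nodes.Comb Cfsg.Agent.Nodes.Reps
  Cfsg.Agent.Nodes.BNOf Cfsg.Agent.Nodes.StabComb
  Cfsg.Agent.Nodes.RGDLib Cfsg.Agent.Nodes.Bruhat Cfsg.Agent.Nodes.OppDec
open Cfsg.Agent.Tits.Exchange hiding nn
open Cfsg.Agent.OddHalf.NI.Mult (Coord up lo nn dg)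
open Cfsg.Agent.H514.DP (PE IsPE PW)
open Cfsg.Agent.H53.HC (MJ)
open Cfsg.Agent.H175.DP (dc coe_dc)
open Cfsg.Agent.KFacts.RgdBorelTits (Filt)
open Cfsg.Lie Cfsg.Agent.ChevalleyStructure Cfsg.Agent.ChevalleyStructure.CoxeterGeomTypes Cfsg.Agent.Nodes.RGDChev Cfsg.Agent.KFacts.RgdChevCoord
open Cfsg.Agent.OddHalf.NI.ModelChev (sl hcH comm_TT sl_uu sl_vv sl_ww sl_dd range_sl)
open Matrix

universe u

/-! ### General -/

theorem dg_conj {K : Type*} [Field K] (u : Kˣ) (g : SpecialLinearGroup (Fin 2) K) :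
    dg u * g * (dg u)⁻¹ = dc (u ^ 2) g := by
  rw [mul_inv_eq_iff_eq_mul]
  apply Subtype.ext
  rw [Matrix.SpecialLinearGroup.coe_mul, Matrix.SpecialLinearGroup.coe_mul, coe_dc, OddHalf.NI.Mult.coe_dg]
  have hu : (u : K) ≠ 0 := u.ne_zero
  rw [Matrix.eta_fin_two (g : Matrix (Fin 2) (Fin 2) K), Matrix.mul_fin_two]
  ext a b
  fin_cases a <;> fin_cases b <;> simp [Matrix.mul_apply, Fin.sum_univ_two] <;> field_simp

theorem card_SL2 {K : Type*} [Field K] [Finite K] : Nat.card (SpecialLinearGroup (Fin 2) K) =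
    Nat.card K * (Nat.card K ^ 2 - 1) := by
  have := Fintype.ofFinite K
  rw [Nat.card_eq_fintype_card (α := K)]
  have h1 := S0242.result (F := K) rfl 2 (by norm_num)
  have hq : 2 ≤ Fintype.card K := Fintype.one_lt_card
  rw [Fin.prod_univ_two] at h1
  have h3 : Fintype.card K ^ 2 - Fintype.card K ^ 1 = (Fintype.card K - 1) * Fintype.card K := by
    rw [Nat.sub_mul, one_mul, pow_one, pow_two]
  simp only [Fin.val_zero, Fin.val_one, pow_zero] at h1
  rw [h3] at h1
  have h4 : (Fintype.card K - 1) * Nat.card (Matrix.SpecialLinearGroup (Fin 2) K) =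
      (Fintype.card K - 1) * (Fintype.card K * (Fintype.card K ^ 2 - 1)) := by rw [h1]; ring
  exact Nat.eq_of_mul_eq_mul_left (by omega) h4

section

variable {I W Y : Type*} [Fintype I] [DecidableEq I] [Group W] [Group Y] {M : CoxeterMatrix I}
  {cs : CoxeterSystem M W} {A : I → I → ℤ} {h : IsCartan M A} {r : ℕ} {T : Subgroup Y} {n : I → Y}
  {X : (I → ℤ) → Subgroup Y}
  {F : I → Type*} [∀ i, Field (F i)] {s : ∀ i, Matrix.SpecialLinearGroup (Fin 2) (F i) →* Y}

/-- `MJ {i}` is the rank one group of the node `i` -/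
theorem MJ_singleton [Finite W] (i : I) : MJ cs h X {i} = X (sr i) ⊔ X (-sr i) := by
  apply le_antisymm
  · refine RGD.Sup_le fun x hx => ?_
    rcases hx.1.pos_or_neg with h1 | h1
    · have h2 := hx.1.eq_sr h1 i fun k hk => hx.2 k hk
      rw [h2]
      exact le_sup_left
    · have h2 := hx.1.neg.eq_sr (neg_nonneg.2 h1) i fun k hk => by
        rw [Pi.neg_apply, hx.2 k hk, neg_zero]
      have h3 : x = -sr i := by rw [← h2, neg_neg]
      rw [h3]
      exact le_sup_right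
  · exact KK_le_MJ rfl

theorem not_dvd_MJ_singleton [Finite W] [Finite Y] (C : Coord X F s) {i : I} [Finite (F i)] {p : ℕ}
    (hp : ¬ p ∣ Nat.card (F i) * (Nat.card (F i) ^ 2 - 1)) : ¬ p ∣ Nat.card (MJ cs h X {i}) := by
  intro hd
  apply hp
  rw [← card_SL2 (K := F i)]
  have h1 : MJ cs h X {i} = (s i).range := by
    rw [MJ_singleton]
    exact le_antisymm (C.KK_le_range i) (C.range_le_KK i)
  rw [h1] at hd
  exact hd.trans (Subgroup.card_range_dvd (s i))

/-- the exponent of the torus -/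
theorem torus_pow [Finite W] (R : RGD cs h r T n X) (hG : G1 cs h X = ⊤) (C : Coord X F s)
    (hT : ∀ a ∈ T, ∀ b ∈ T, a * b = b * a) {e : ℕ} (he : ∀ i, ∀ u : (F i)ˣ, u ^ e = 1) {t : Y} (ht : t ∈ T) :
    t ^ e = 1 := by
  have h1 : ∀ i, ((s i).comp OddHalf.NI.Mult.dgHom).range ≤ T := by
    rintro i _ ⟨u, rfl⟩
    exact OddHalf.NI.Mult.dg_mem_T R C i u
  have h2 : T = ⨆ i, ((s i).comp OddHalf.NI.Mult.dgHom).range := OddHalf.NI.Mult.torus R C hG
  have h3 : t ∈ ⨆ i, ((s i).comp OddHalf.NI.Mult.dgHom).range := by rw [← h2]; exact ht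
  have key : t ∈ T ∧ t ^ e = 1 := by
    refine Subgroup.iSup_induction (fun i => ((s i).comp OddHalf.NI.Mult.dgHom).range)
      (C := fun t => t ∈ T ∧ t ^ e = 1) h3 ?_ ⟨one_mem _, one_pow _⟩ ?_
    · intro i x hx
      refine ⟨h1 i hx, ?_⟩
      obtain ⟨u, rfl⟩ := hx
      rw [← map_pow, he i u, map_one]
    · rintro x y ⟨hx, hx'⟩ ⟨hy, hy'⟩
      refine ⟨mul_mem hx hy, ?_⟩
      rw [(show Commute x y from hT x hx y hy).mul_pow, hx', hy', one_mul]
  exact key.2

theorem not_dvd_of_pow [Finite Y] {e p : ℕ} (hp : p.Prime) (he : ∀ t ∈ T, t ^ e = 1) (hpe : ¬ p ∣ e) :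
    ¬ p ∣ Nat.card T := by
  intro hd
  have : Fact p.Prime := ⟨hp⟩
  obtain ⟨t, ht⟩ := exists_prime_orderOf_dvd_card' (G := T) p hd
  apply hpe
  rw [← ht]
  refine orderOf_dvd_of_pow_eq_one (Subtype.ext ?_)
  rw [Subgroup.coe_pow]
  exact he t t.2

/-- a connected set with at least two nodes: neighbours -/
theorem LevMin.exists_adj {J : Set I} {p : ℕ} (L : LevMin cs h X J p) {j : I} (hj : j ∈ J) (hne : J ≠ {j}) :
    ∃ k ∈ J, k ≠ j ∧ M j k ≠ 2 := by
  obtain ⟨a, rfl, b, hb, hba, hab⟩ := L.conn {j} (Set.singleton_subset_iff.2 hj) ⟨j, rfl⟩ hne.symm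
  exact ⟨b, hb, hba, hab⟩

/-- a property stable under simple bonds in a connected simply laced diagram -/
theorem all_of_one (hconn : ∀ J : Set I, J.Nonempty → J ≠ Set.univ → ∃ a ∈ J, ∃ b, b ∉ J ∧ M a b ≠ 2)
    (hsl : ∀ i j, i ≠ j → M i j = 2 ∨ M i j = 3) {P : I → Prop} (hP : ∀ i j, M i j = 3 → P i → P j) {i : I}
    (hi : P i) (j : I) : P j := by
  by_contra hj
  obtain ⟨a, ha, b, hb, hab⟩ := hconn {i | P i} ⟨i, hi⟩ (fun h1 => hj (by
    have : j ∈ {i | P i} := by rw [h1]; trivial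
    exact this))
  have hne : a ≠ b := fun h1 => hb (h1 ▸ ha)
  exact hb (hP a b ((hsl a b hne).resolve_left hab) ha)

end

/-! ### The groups `D.group K` -/

section

variable {D : ChevalleyDatum} {l : ℕ} {M : CoxeterMatrix (Fin l)} (hp : IsType D l M) {K : Type u} [Field K]

include hp

theorem hT_chev : ∀ a ∈ TT D K, ∀ b ∈ TT D K, a * b = b * a := by
  intro a ha b hb
  exact congrArg Subtype.val (comm_TT hp ⟨a, ha⟩ ⟨b, hb⟩)

theorem hn_chev (i : Fin l) : nc hp K i ∈ XX D l K (sr i) ⊔ XX D l K (-sr i) := by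
  rw [← range_sl hp (K := K) i, ← sl_ww hp i]
  exact ⟨_, rfl⟩

omit hp [Field K] in
theorem cartan_eq (j i : Fin l) : D.cartan j (D.simple i) = cartanOf D l j i := (cartanOf_def D l j i).symm

/-- **The action of `h_j(λ)` on the node `i`.** -/
theorem hc_conj_sl [Finite K] (r : ℕ) [Fact r.Prime] [CharP K r] (i j : Fin l) (u : Kˣ)
    (g : SpecialLinearGroup (Fin 2) K) :
    hc hp j (u : K) * sl hp i g * (hc hp j (u : K))⁻¹ = sl hp i (dc (u ^ D.cartan j (D.simple i)) g) := by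
  have := finite_W hp M.toCoxeterSystem
  refine H169.DP.act_dc (rgd (K := K) hp M.toCoxeterSystem r) (H162.GaussExc.coord hp) (hc_mem hp j u.ne_zero)
    (fun a => ?_) g
  have hr := NPerm.simple_lt hp.inList (lt_rank hp i)
  have h1 := (act hp hr (hc_mem hp j u.ne_zero)).2 a
  rw [ch_hc hp j u.ne_zero hr, vec_simple hp i] at h1
  have h2 : ∀ a : K, sl hp i (up a) = xc hp (sr i) a := fun a => sl_uu hp i a
  rw [h2, h2, h1, Units.val_zpow_eq_zpow_val]

theorem hc_mem_sl (j : Fin l) (u : Kˣ) : hc hp j (u : K) = sl hp j (dg u) := by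
  rw [← sl_dd hp j (u : K) u.ne_zero]
  congr 1
  apply Subtype.ext
  rw [OddHalf.NI.Mult.coe_dg, Units.val_inv_eq_inv_val]
  rfl

variable [Finite K]

omit hp in
theorem unit_pow (u : Kˣ) : u ^ (Nat.card K - 1) = 1 := by
  have := Fintype.ofFinite K
  rw [Nat.card_eq_fintype_card]
  apply Units.ext
  rw [Units.val_pow_eq_pow_val, Units.val_one]
  exact FiniteField.pow_card_sub_one_eq_one _ u.ne_zero

theorem hc_pow (j : Fin l) (u : Kˣ) (e : ℕ) (he : u ^ e = 1) : hc hp j (u : K) ^ e = 1 := by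
  have h1 := OddHalf.NI.Mult.dgHom (F := K)
  rw [hc_mem_sl, ← map_pow]
  have h2 : (dg u : SpecialLinearGroup (Fin 2) K) ^ e = 1 := by
    change (OddHalf.NI.Mult.dgHom u) ^ e = 1
    rw [← map_pow, he, map_one]
  rw [h2, map_one]

/-- the torus elements are `r`-regular -/
theorem not_dvd_orderOf_hc (r : ℕ) [Fact r.Prime] [CharP K r] (j : Fin l) (u : Kˣ) :
    ¬ r ∣ orderOf (hc hp j (u : K)) := by
  intro hd
  have h1 := hd.trans (orderOf_dvd_of_pow_eq_one (hc_pow hp j u _ (unit_pow u)))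
  have := Fintype.ofFinite K
  have h2 : r ∣ Nat.card K := by
    rw [Nat.card_eq_fintype_card, FiniteField.card K r |>.choose_spec.2]
    exact dvd_pow_self r (FiniteField.card K r).choose.ne_zero
  have h3 : 1 ≤ Nat.card K := Nat.card_pos
  have h4 := (Nat.dvd_sub h2 h1)
  rw [Nat.sub_sub_self h3, Nat.dvd_one] at h4
  exact (Fact.out : r.Prime).one_lt.ne' h4

theorem not_dvd_TT (r : ℕ) [Fact r.Prime] [CharP K r] {p : ℕ} (hpp : p.Prime) (hpq : ¬ p ∣ Nat.card K - 1) :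
    ¬ p ∣ Nat.card (TT D K) := by
  have := finite_W hp M.toCoxeterSystem
  refine not_dvd_of_pow hpp (fun t ht => ?_) hpq
  exact torus_pow (rgd (K := K) hp M.toCoxeterSystem r) (G1_eq_top hp _) (H162.GaussExc.coord hp)
    (hT_chev hp) (fun _ u => unit_pow u) ht

/-- **The torus case** `p ∣ q - 1`. -/
theorem nodeP_torus (r : ℕ) [Fact r.Prime] [CharP K r] {p : ℕ} (hpp : p.Prime) (hpq : p ∣ Nat.card K - 1)
    {i j : Fin l} (hij : M i j = 3) : NodeP (XX D l K) p 2 i := by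
  have := Fintype.ofFinite K
  have hji : D.cartan j (D.simple i) = -1 := by
    rw [cartan_eq]
    exact (H35.ExcIdx.cartan_three hp.isCartan hij).2
  have h0 : Nat.card Kˣ = Nat.card K - 1 := Nat.card_units K
  have : Fact p.Prime := ⟨hpp⟩
  obtain ⟨u, hu⟩ := exists_prime_orderOf_dvd_card' (G := Kˣ) p (by rw [h0]; exact hpq)
  have hup : u ^ p = 1 := by rw [← hu]; exact pow_orderOf_eq_one u
  have hu1 : u ≠ 1 := by
    rintro rfl
    rw [orderOf_one] at hu
    exact hpp.one_lt.ne hu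
  have hz : IsPE p (hc hp j (u : K)) := ⟨1, by rw [pow_one]; exact hc_pow hp j u p hup⟩
  refine NodeP.of_act (H162.GaussExc.coord hp) (z := hc hp j (u : K)) (μ := u ^ D.cartan j (D.simple i)) ?_
    (hc_conj_sl hp r i j u) hz.pe
  rw [hji, _root_.zpow_neg_one]
  exact fun h1 => hu1 (inv_eq_one.1 h1)

/-- **Simply laced diagrams.** -/
theorem nodeP_sl (r : ℕ) [Fact r.Prime] [CharP K r]
    (hconn : ∀ J : Set (Fin l), J.Nonempty → J ≠ Set.univ → ∃ a ∈ J, ∃ b, b ∉ J ∧ M a b ≠ 2)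
    (hsl : ∀ i j, i ≠ j → M i j = 2 ∨ M i j = 3) (hadj : ∀ i, ∃ j, M i j = 3) {p : ℕ} (hpp : p.Prime) (hpr : p ≠ r)
    (hd : p ∣ Nat.card ↥(D.group K)) (i : Fin l) : NodeP (XX D l K) p 4 i := by
  have := finite_W hp M.toCoxeterSystem
  have R := rgd (K := K) hp M.toCoxeterSystem r
  have C := H162.GaussExc.coord hp (K := K)
  have hF := KFacts.RgdFiltChev.filt (K := K) hp M.toCoxeterSystem r
  have := Fintype.ofFinite K
  have hr : r.Prime := Fact.out
  by_cases hpq : p ∣ Nat.card K - 1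
  · obtain ⟨j, hj⟩ := hadj i
    exact (nodeP_torus hp r hpp hpq hj).mono (by norm_num)
  have hpT := not_dvd_TT hp r hpp hpq
  have hadjP : ∀ i j, M i j = 3 → NodeP (XX D l K) p 4 i → NodeP (XX D l K) p 4 j :=
    fun i j hij h1 => NodeP.adj R hij h1
  obtain ⟨J, L⟩ := exists_levMin R (G1_eq_top hp _) hpp hd
  obtain ⟨i0, hi0⟩ := L.ne
  refine all_of_one hconn hsl hadjP (i := i0) ?_ i
  -- the order of the field
  obtain ⟨f, -, hf⟩ := FiniteField.card K r
  have hpK : ¬ p ∣ Nat.card K := by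
    rw [Nat.card_eq_fintype_card, hf]
    exact fun h1 => hpr ((Nat.prime_dvd_prime_iff_eq hpp hr).1 (hpp.dvd_of_dvd_pow h1))
  have hK2 : 2 ≤ Nat.card K := by
    rw [Nat.card_eq_fintype_card]
    exact Fintype.one_lt_card
  by_cases h4 : 4 ≤ Nat.card K
  · obtain ⟨u, hu⟩ := exists_sq_ne_one h4
    have hperf := mj_perfect R (hn_chev hp) C (J := J) fun j _ => Or.inl h4
    refine L.nodeP (hT_chev hp) (hn_chev hp) hF C hperf hpp hpr hpT hi0 (z := hc hp i0 (u : K)) ?_
      (not_dvd_orderOf_hc hp r i0 u) (μ := u ^ 2) hu (fun g => ?_)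
    · rw [hc_mem_sl]
      exact KK_le_MJ hi0 (mem_KK C i0 _)
    · rw [hc_mem_sl, ← map_inv, ← map_mul, ← map_mul, dg_conj]
  -- small fields
  have hsing : p ≠ 3 → ∀ j ∈ J, J ≠ {j} := by
    intro hp3 j hj hJ
    have h1 : ¬ p ∣ Nat.card (MJ M.toCoxeterSystem hp.isCartan (XX D l K) {j}) := by
      refine not_dvd_MJ_singleton C (i := j) fun h2 => ?_
      rcases (Nat.Prime.dvd_mul hpp).1 h2 with h3 | h3
      · exact hpK h3
      · have h5 : Nat.card K = 2 ∨ Nat.card K = 3 := by omega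
        rcases h5 with h5 | h5
        · rw [h5] at h3
          exact hp3 ((Nat.prime_dvd_prime_iff_eq hpp Nat.prime_three).1 h3)
        · rw [h5] at h3 hpq
          have h6 : p ∣ 2 ^ 3 := h3
          have h7 := (Nat.prime_dvd_prime_iff_eq hpp Nat.prime_two).1 (hpp.dvd_of_dvd_pow h6)
          exact hpq (by rw [h7])
    exact h1 (hJ ▸ L.dvd)
  have hadjJ : p ≠ 3 → ∀ j ∈ J, ∃ k ∈ J, M j k = 3 := by
    intro hp3 j hj
    obtain ⟨k, hk, hkj, hjk⟩ := L.exists_adj hj (hsing hp3 j hj)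
    exact ⟨k, hk, (hsl j k hkj.symm).resolve_left hjk⟩
  have h5 : Nat.card K = 2 ∨ Nat.card K = 3 := by omega
  rcases h5 with h5 | h5
  · -- two elements
    have hr2 : r = 2 := by
      rw [Nat.card_eq_fintype_card, hf] at h5
      exact (Nat.prime_dvd_prime_iff_eq hr Nat.prime_two).1 (h5 ▸ dvd_pow_self r f.ne_zero)
    by_cases hp3 : p = 3
    · subst hp3
      obtain ⟨j, hj⟩ := hadj i0
      exact (nodeP_three (R := R) C hj h5).mono (by norm_num)
    · obtain ⟨j, hj, hij⟩ := hadjJ hp3 i0 hi0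
      have hperf := mj_perfect R (hn_chev hp) C (J := J) fun j hj => Or.inr (hadjJ hp3 j hj)
      exact L.nodeP_two (hT_chev hp) (hn_chev hp) hF C hperf hpp hpr hpT hi0 hj hij h5 (by omega)
  · -- three elements
    have hr3 : r = 3 := by
      rw [Nat.card_eq_fintype_card, hf] at h5
      exact (Nat.prime_dvd_prime_iff_eq hr Nat.prime_three).1 (h5 ▸ dvd_pow_self r f.ne_zero)
    have hp3 : p ≠ 3 := hr3 ▸ hpr
    obtain ⟨j, hj, hij⟩ := hadjJ hp3 i0 hi0
    have hperf := mj_perfect R (hn_chev hp) C (J := J) fun j hj => Or.inr (hadjJ hp3 j hj)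
    have hji : D.cartan j (D.simple i0) = -1 := by
      rw [cartan_eq]
      exact (H35.ExcIdx.cartan_three hp.isCartan hij).2
    refine L.nodeP (hT_chev hp) (hn_chev hp) hF C hperf hpp hpr hpT hi0 (z := hc hp j ((-1 : Kˣ) : K)) ?_
      (not_dvd_orderOf_hc hp r j _) (μ := (-1 : Kˣ) ^ D.cartan j (D.simple i0)) ?_ (hc_conj_sl hp r i0 j _)
    · rw [hc_mem_sl]
      exact KK_le_MJ hj (mem_KK C j _)
    · rw [hji, _root_.zpow_neg_one]
      intro h1
      have h2 : (-1 : K) = 1 := by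
        have := congrArg Units.val (inv_eq_one.1 h1)
        simpa using this
      have h3 : (2 : K) = 0 := by linear_combination -h2
      have h6 : ringChar K = 3 := by rw [ringChar.eq K r, hr3]
      have h7 : (3 : K) = 0 := by
        have := CharP.cast_eq_zero K r
        rw [hr3] at this
        exact_mod_cast this
      have h8 : (1 : K) = 0 := by linear_combination h7 - h3
      exact one_ne_zero h8

end

end Cfsg.Agent.H346.DP
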