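import Mathlib
import Cfsg.Agent.H346.DP.ChevNode
import Cfsg.Agent.H346.DP.Words

/-!
The rows `E₆`, `E₇`, `E₈` (S2454): every element is a product of 70 `p`-elements.
-/

set_option autoImplicit false
set_option linter.unusedSectionVars false

namespace Cfsg.Agent.H346.DP

open CoxeterSystem Cfsg.Agent.H514.DP
open Cfsg.Lie Cfsg.Agent.ChevalleyStructure Cfsg.Agent.Nodes.RGDChev Cfsg.Agent.KFacts.RgdChevCoord

universe u

/-- **Simply laced Chevalley groups.** -/
theorem pw_simplyLaced {D : ChevalleyDatum} {l : ℕ} {M : CoxeterMatrix (Fin l)} (hp : IsType D l M) {K : Type u}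
    [Field K] [Finite K] (hl : 0 < l) (hG : IsSimpleGroup ↥(D.group K) ∧ ¬ IsMulCommutative ↥(D.group K))
    (hM : ∀ J : Finset (Fin l), J = ∅ ∨ J = Finset.univ ∨ ∃ a ∈ J, ∃ b, b ∉ J ∧ M a b ≠ 2)
    (hsl : ∀ i j, i ≠ j → M i j = 2 ∨ M i j = 3) (hadj : ∀ i, ∃ j, M i j = 3) {ω : List (Fin l)} {N : ℕ}
    {P Q : ℕ → ℕ → ℕ} (hT : TOk D l ω N P Q) (hω : ω.length ≤ 8) {p : ℕ} (hpp : p.Prime)
    (hd : p ∣ Nat.card ↥(D.group K)) : PW p 70 ↥(D.group K) := by
  obtain ⟨r, hr⟩ := CharP.exists K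
  have := Fintype.ofFinite K
  have : Fact r.Prime := ⟨(CharP.char_is_prime_or_zero K r).resolve_right (CharP.char_ne_zero_of_finite K r)⟩
  by_cases hpr : p = r
  · subst hpr
    exact (pw_own (K := K) (r := p) hp hl hG hM).mono (by norm_num)
  have := finite_W hp M.toCoxeterSystem
  refine pw_chev (K := K) hp hl hG hM hT (m := fun _ => 4) (fun i t => ?_) ?_
  · exact (nodeP_sl (K := K) hp r (Cfsg.Agent.Nodes.ChevChart.irr_of hM) hsl hadj hpp hpr hd i).nodes
      (rgd (K := K) hp M.toCoxeterSystem r) (H162.GaussExc.coord hp) t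
  · rw [List.map_const', List.sum_replicate, smul_eq_mul]
    omega

set_option backward.isDefEq.respectTransparency false in
theorem sl6 : ∀ i j : Fin 6, i ≠ j → CoxeterMatrix.E₆ i j = 2 ∨ CoxeterMatrix.E₆ i j = 3 := by decide +kernel

set_option backward.isDefEq.respectTransparency false in
theorem adj6 : ∀ i : Fin 6, ∃ j : Fin 6, CoxeterMatrix.E₆ i j = 3 := by decide +kernel

set_option backward.isDefEq.respectTransparency false in
theorem sl7 : ∀ i j : Fin 7, i ≠ j → CoxeterMatrix.E₇ i j = 2 ∨ CoxeterMatrix.E₇ i j = 3 := by decide +kernel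

set_option backward.isDefEq.respectTransparency false in
theorem adj7 : ∀ i : Fin 7, ∃ j : Fin 7, CoxeterMatrix.E₇ i j = 3 := by decide +kernel

set_option backward.isDefEq.respectTransparency false in
theorem sl8 : ∀ i j : Fin 8, i ≠ j → CoxeterMatrix.E₈ i j = 2 ∨ CoxeterMatrix.E₈ i j = 3 := by decide +kernel

set_option backward.isDefEq.respectTransparency false in
theorem adj8 : ∀ i : Fin 8, ∃ j : Fin 8, CoxeterMatrix.E₈ i j = 3 := by decide +kernel

/-- **`E₆(q)`.** -/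
theorem pw_E6 {K : Type u} [Field K] [Fintype K] {p : ℕ} (hp : p.Prime) (hd : p ∣ Nat.card ↥(chevE6.group K)) :
    PW p 70 ↥(chevE6.group K) :=
  pw_simplyLaced Cfsg.Agent.Nodes.KindE.isType6 (by norm_num) (Cfsg.Agent.S1054.result chevE6 (by simp))
    Cfsg.Agent.Nodes.ChevChart.irr6 sl6 adj6 chk6.tok (by decide) hp hd

/-- **`E₇(q)`.** -/
theorem pw_E7 {K : Type u} [Field K] [Fintype K] {p : ℕ} (hp : p.Prime) (hd : p ∣ Nat.card ↥(chevE7.group K)) :
    PW p 70 ↥(chevE7.group K) :=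
  pw_simplyLaced Cfsg.Agent.Nodes.KindE.isType7 (by norm_num) (Cfsg.Agent.S1054.result chevE7 (by simp))
    Cfsg.Agent.Nodes.ChevChart.irr7 sl7 adj7 chk7.tok (by decide) hp hd

/-- **`E₈(q)`.** -/
theorem pw_E8 {K : Type u} [Field K] [Fintype K] {p : ℕ} (hp : p.Prime) (hd : p ∣ Nat.card ↥(chevE8.group K)) :
    PW p 70 ↥(chevE8.group K) :=
  pw_simplyLaced Cfsg.Agent.Nodes.KindE.isType8 (by norm_num) (Cfsg.Agent.S1054.result chevE8 (by simp))
    Cfsg.Agent.Nodes.ChevChart.irr8 sl8 adj8 chk8.tok (by decide) hp hd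

end Cfsg.Agent.H346.DP
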