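import Mathlib
import Cfsg.Agent.H249.DP.Trace
import Cfsg.Agent.H249.DP.TwFCent
import Cfsg.Agent.H628.PQR.TwFCore
import Cfsg.Agent.H330.Gow
import Cfsg.Agent.H122.Cyc.TwF4Deg
import Cfsg.Agent.H320.Kill.TwFFour
import Cfsg.Agent.H84.SzLevi
import Cfsg.Agent.S2457
import Cfsg.Agent.S1072

/-!
The row `²F₄(q)`, `q ≥ 8`, of S2454.
-/

set_option autoImplicit false
set_option linter.unusedSectionVars false

namespace Cfsg.Agent.H346.DP.TwFRow

open Cfsg Cfsg.Lie Cfsg.Agent.H514.DP Subgroup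
open Cfsg.Agent.ChevalleyStructure.SL2Hom Cfsg.Agent.ChevalleyStructure.SL2Rep
open Cfsg.Agent.ChevalleyStructure.TwF4.TwistedFix (Rln exists_rln)
open Cfsg.Agent.KFacts.TwF4 Cfsg.Agent.KFacts.TwF4.Irr Cfsg.Agent.H496.TwFRad
open Cfsg.Agent.H320.Kill (thF thF_up thF_lo)

universe u

/-- a simple group which is not abelian is perfect -/
theorem perf_of {G : Type*} [Group G] [IsSimpleGroup G] (hna : ¬ IsMulCommutative G) : commutator G = ⊤ := by
  rcases (inferInstance : (commutator G).Normal).eq_bot_or_eq_top with h | h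
  · exfalso
    apply hna
    rw [commutator_def] at h
    have h1 := Subgroup.commutator_eq_bot_iff_le_centralizer.1 h
    refine ⟨⟨fun a b => ?_⟩⟩
    have h2 := h1 (mem_top a)
    exact (mem_centralizer_iff.1 h2 b (mem_top b)).symm
  · exact h

section

variable {K : Type} [Field K] [Fintype K] {m : ℕ}

theorem q8 (hm : 1 ≤ m) (hK : Fintype.card K = 2 ^ (2 * m + 1)) : 8 ≤ Fintype.card K := by
  rw [hK]
  calc 8 = 2 ^ 3 := by norm_num
    _ ≤ 2 ^ (2 * m + 1) := Nat.pow_le_pow_right (by norm_num) (by omega)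

/-- **K for `²F₄(q)`**: `|C(y)| ≤ 32 q²(q-1)²`. -/
theorem pw_of_four (hm : 1 ≤ m) (hK : Fintype.card K = 2 ^ (2 * m + 1)) {p k : ℕ} {y : ↥(twistedF4 K (2 ^ m))}
    (hy : PE p k y) (hC : Nat.card (centralizer ({y} : Set ↥(twistedF4 K (2 ^ m)))) ≤
      32 * Fintype.card K ^ 2 * (Fintype.card K - 1) ^ 2) : PW p (k * 6) ↥(twistedF4 K (2 ^ m)) := by
  obtain ⟨hs, hna⟩ := Cfsg.Agent.S1072.result hm hK
  have hd : MinDeg ↥(twistedF4 K (2 ^ m)) (2 * Fintype.card K ^ 4) := fun k ρ hρ hk =>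
    (Cfsg.Agent.H122.Cyc.TwF4.minDeg_twf4 hm hK hs).irr k ρ hρ hk
  have h8 := q8 hm hK
  refine PW.of_pe (perf_of hna) hy hd (by norm_num) ?_
  generalize Fintype.card K = q at *
  have h1 : Nat.card (centralizer ({y} : Set ↥(twistedF4 K (2 ^ m)))) - 1 < 32 * q ^ 4 := by
    have h2 : 32 * q ^ 2 * (q - 1) ^ 2 ≤ 32 * q ^ 4 := by
      have : (q - 1) ^ 2 ≤ q ^ 2 := Nat.pow_le_pow_left (by omega) 2
      calc 32 * q ^ 2 * (q - 1) ^ 2 ≤ 32 * q ^ 2 * q ^ 2 := Nat.mul_le_mul_left _ this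
        _ = 32 * q ^ 4 := by ring
    have h3 : 0 < 32 * q ^ 4 := by positivity
    omega
  calc _ < (32 * q ^ 4) ^ 6 := Nat.pow_lt_pow_left h1 (by norm_num)
    _ = 2 ^ 6 * 8 ^ 8 * q ^ 24 := by ring
    _ ≤ 2 ^ 6 * q ^ 8 * q ^ 24 := by gcongr
    _ ≤ 2 ^ 8 * q ^ 8 * q ^ 24 := by gcongr <;> norm_num
    _ = (2 * q ^ 4) ^ (2 * 6 - 4) := by norm_num; ring

/-- **K for `²F₄(q)`**: `|C(y)| ≤ 32 q⁴(q-1)²`. -/
theorem pw_of_six (hm : 1 ≤ m) (hK : Fintype.card K = 2 ^ (2 * m + 1)) {p k : ℕ} {y : ↥(twistedF4 K (2 ^ m))}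
    (hy : PE p k y) (hC : Nat.card (centralizer ({y} : Set ↥(twistedF4 K (2 ^ m)))) ≤
      32 * Fintype.card K ^ 4 * (Fintype.card K - 1) ^ 2) : PW p (k * 18) ↥(twistedF4 K (2 ^ m)) := by
  obtain ⟨hs, hna⟩ := Cfsg.Agent.S1072.result hm hK
  have hd : MinDeg ↥(twistedF4 K (2 ^ m)) (2 * Fintype.card K ^ 4) := fun k ρ hρ hk =>
    (Cfsg.Agent.H122.Cyc.TwF4.minDeg_twf4 hm hK hs).irr k ρ hρ hk
  have h8 := q8 hm hK
  refine PW.of_pe (perf_of hna) hy hd (by norm_num) ?_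
  generalize Fintype.card K = q at *
  have h1 : Nat.card (centralizer ({y} : Set ↥(twistedF4 K (2 ^ m)))) - 1 < 32 * q ^ 6 := by
    have h2 : 32 * q ^ 4 * (q - 1) ^ 2 ≤ 32 * q ^ 6 := by
      have : (q - 1) ^ 2 ≤ q ^ 2 := Nat.pow_le_pow_left (by omega) 2
      calc 32 * q ^ 4 * (q - 1) ^ 2 ≤ 32 * q ^ 4 * q ^ 2 := Nat.mul_le_mul_left _ this
        _ = 32 * q ^ 6 := by ring
    have h3 : 0 < 32 * q ^ 6 := by positivity
    omega
  calc _ < (32 * q ^ 6) ^ 18 := Nat.pow_lt_pow_left h1 (by norm_num)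
    _ = 2 ^ 30 * 8 ^ 20 * q ^ 108 := by ring
    _ ≤ 2 ^ 30 * q ^ 20 * q ^ 108 := by gcongr
    _ ≤ 2 ^ 32 * q ^ 20 * q ^ 108 := by gcongr <;> norm_num
    _ = (2 * q ^ 4) ^ (2 * 18 - 4) := by norm_num; ring

theorem exists_unit (hm : 1 ≤ m) (hK : Fintype.card K = 2 ^ (2 * m + 1)) : ∃ c : Kˣ, c ≠ 1 := by
  have h1 : 1 < Nat.card Kˣ := by
    rw [Nat.card_units, Nat.card_eq_fintype_card]
    have := q8 hm hK
    omega
  have h2 : Nontrivial Kˣ := Finite.one_lt_card_iff_nontrivial.1 h1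
  exact exists_ne 1

end

section

variable {F : Type*} [Field F] {σ : F →+* F} {G : Type*} [Group G] (S : Full σ G) [Finite F] [Finite G]

theorem cent_five {t : G} (ht : t ∈ S.Tk 5) (ht1 : t ≠ 1) :
    Nat.card ↥(centralizer ({t} : Set G)) ≤ 32 * Nat.card F ^ 2 * (Nat.card F - 1) ^ 2 := by
  rw [Cfsg.Agent.H249.DP.TwF.card_cent_ck S (-2) t]
  refine Cfsg.Agent.H249.DP.TwF.card_cent_one S ?_ ?_
  · have := S.ck_Tk (-2) ht
    simpa using this
  · intro h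
    exact ht1 ((MulEquiv.map_eq_one_iff _).1 h)

theorem cent_four {t : G} (ht : t ∈ S.Tk 4) (ht1 : t ≠ 1) :
    Nat.card ↥(centralizer ({t} : Set G)) ≤ 32 * Nat.card F ^ 4 * (Nat.card F - 1) ^ 2 := by
  rw [Cfsg.Agent.H249.DP.TwF.card_cent_ck S 2 t]
  refine Cfsg.Agent.H249.DP.TwF.card_cent_eight S ?_ ?_
  · have := S.ck_Tk 2 ht
    simpa using this
  · intro h
    exact ht1 ((MulEquiv.map_eq_one_iff _).1 h)

theorem h_mem_five (c : Fˣ) : S.h c c ∈ S.Tk 5 := by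
  refine ⟨S.mem_T.2 ⟨c, c, rfl⟩, mem_centralizer_iff.2 fun x hx => ?_⟩
  obtain ⟨t, rfl⟩ := S.X5 hx
  have h4 := S.h_o c c 2 t
  have e1 : chO σ 2 c c = 1 := by
    show chE σ 2 c c * chE σ (2 + 1) c c = 1
    have e : (2 : ZMod 8) + 1 = 3 := by decide
    rw [e, chE_two, chE_three, div_mul_div_comm, mul_comm, div_self']
  rw [e1, Units.val_one, one_mul, mul_inv_eq_iff_eq_mul] at h4
  exact h4.symm

theorem h_ne_one {c : Fˣ} (hc : c ≠ 1) : S.h c c ≠ 1 := by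
  intro h
  rw [← S.h_one] at h
  exact hc (S.h_inj _ _ _ _ h).1

end

section

variable {K : Type} [Field K] [Fintype K] {m : ℕ}

/-- matrices of determinant one which normalise the two root subgroups are diagonal -/
theorem diag_of {F : Type*} [Field F] {g : Matrix.SpecialLinearGroup (Fin 2) F} {s t : F}
    (h1 : g * up 1 * g⁻¹ = up s) (h2 : g * lo 1 * g⁻¹ = lo t) :
    ∃ l : F, l ≠ 0 ∧ (g : Matrix (Fin 2) (Fin 2) F) = !![l, 0; 0, l⁻¹] := by
  rw [mul_inv_eq_iff_eq_mul] at h1 h2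
  have e1 : (g : Matrix (Fin 2) (Fin 2) F) * !![1, 1; 0, 1] = !![1, s; 0, 1] * (g : Matrix (Fin 2) (Fin 2) F) :=
    congrArg (fun x : Matrix.SpecialLinearGroup (Fin 2) F => (x : Matrix (Fin 2) (Fin 2) F)) h1
  have e2 : (g : Matrix (Fin 2) (Fin 2) F) * !![1, 0; 1, 1] = !![1, 0; t, 1] * (g : Matrix (Fin 2) (Fin 2) F) :=
    congrArg (fun x : Matrix.SpecialLinearGroup (Fin 2) F => (x : Matrix (Fin 2) (Fin 2) F)) h2
  have a1 := congrFun (congrFun e1 1) 1
  have a2 := congrFun (congrFun e2 0) 0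
  have hdet := g.2
  rw [Matrix.det_fin_two] at hdet
  simp [Matrix.mul_apply, Fin.sum_univ_two] at a1 a2
  have h3 : (g : Matrix (Fin 2) (Fin 2) F) 0 0 * (g : Matrix (Fin 2) (Fin 2) F) 1 1 = 1 := by
    have := hdet
    rw [a1, a2, mul_zero, sub_zero] at this
    exact this
  have h0 : (g : Matrix (Fin 2) (Fin 2) F) 0 0 ≠ 0 := left_ne_zero_of_mul_eq_one h3
  refine ⟨(g : Matrix (Fin 2) (Fin 2) F) 0 0, h0, ?_⟩
  ext i j
  fin_cases i <;> fin_cases j
  · rfl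
  · exact a2
  · exact a1
  · show (g : Matrix (Fin 2) (Fin 2) F) 1 1 = ((g : Matrix (Fin 2) (Fin 2) F) 0 0)⁻¹
    exact eq_inv_of_mul_eq_one_right h3

/-- the case `p ∣ q (q² - 1)` -/
theorem caseA (hm : 1 ≤ m) (hK : Fintype.card K = 2 ^ (2 * m + 1)) {p : ℕ} (hp : p.Prime)
    (hd : p ∣ Fintype.card K * (Fintype.card K ^ 2 - 1)) : PW p 12 ↥(twistedF4 K (2 ^ m)) := by
  have : Fact p.Prime := ⟨hp⟩
  obtain ⟨φ, hφ⟩ := exists_rln hK
  have hch : CharP K 2 := Cfsg.Agent.ChevalleyStructure.TwF4.Twisted.charP_two hK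
  have hfin : Finite ↥(twistedF4 K (2 ^ m)) := inferInstance
  obtain ⟨c, hc⟩ := exists_unit hm hK
  let S : Full φ ↥(twistedF4 K (2 ^ m)) := Inst.full hK hφ
  -- the preimage
  have hR : S.LO ≤ (thF hφ).range := by
    refine sup_le (fun x hx => ?_) fun x hx => ?_
    · obtain ⟨t, rfl⟩ := S.X1 hx
      exact ⟨up t, thF_up hφ t⟩
    · obtain ⟨t, rfl⟩ := S.X9 hx
      exact ⟨lo t, thF_lo hφ t⟩
  obtain ⟨g, hg⟩ := hR (S.h_mem_LO c)
  have hg1 : g ≠ 1 := by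
    rintro rfl
    rw [map_one] at hg
    exact h_ne_one S hc hg.symm
  have hinj : Function.Injective (thF hφ) := by
    have h8 := q8 hm hK
    have hsF : IsSimpleGroup (Matrix.SpecialLinearGroup (Fin 2) K) :=
      Cfsg.Agent.H320.Kill.simple_sl CharTwo.two_eq_zero (by rw [Nat.card_eq_fintype_card]; omega)
    rw [← MonoidHom.ker_eq_bot_iff]
    rcases hsF.eq_bot_or_eq_top_of_normal (thF hφ).ker inferInstance with h | h
    · exact h
    · exfalso
      have h4 : thF hφ (up 1) = thF hφ (up 0) := (MonoidHom.mem_ker.mp (h.ge (mem_top (up 1)))).trans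
        (MonoidHom.mem_ker.mp (h.ge (mem_top (up 0)))).symm
      rw [thF_up, thF_up] at h4
      exact one_ne_zero (S.injO 0 h4)
  have h1 : ∃ s, g * up 1 * g⁻¹ = up s := by
    have h2 := S.T_conj (S.mem_T.2 ⟨c, c, rfl⟩) 1 (S.mX1 1)
    obtain ⟨s, hs⟩ := S.X1 h2
    refine ⟨s, hinj ?_⟩
    rw [map_mul, map_mul, map_inv, hg, thF_up, thF_up]
    exact hs.symm
  have h2 : ∃ s, g * lo 1 * g⁻¹ = lo s := by
    have h2 := S.T_conj (S.mem_T.2 ⟨c, c, rfl⟩) 9 (S.mX9 1)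
    obtain ⟨s, hs⟩ := S.X9 h2
    refine ⟨s, hinj ?_⟩
    rw [map_mul, map_mul, map_inv, hg, thF_lo, thF_lo]
    exact hs.symm
  obtain ⟨s, hs⟩ := h1
  obtain ⟨t, ht⟩ := h2
  obtain ⟨l, hl, hgl⟩ := diag_of hs ht
  have hl2 : l * l ≠ 1 := by
    intro h
    have h3 : l = 1 := by
      have h4 : (l - 1) * (l - 1) = 0 := by
        have := CharTwo.two_eq_zero (R := K)
        linear_combination h + (1 - l) * this
      have h5 := mul_self_eq_zero.1 h4
      linear_combination h5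
    apply hg1
    apply Subtype.ext
    rw [hgl, h3, inv_one]
    exact Matrix.one_fin_two.symm
  -- an element of order `p`
  have hd' : p ∣ Nat.card (Matrix.SpecialLinearGroup (Fin 2) K) := by
    rw [Cfsg.Agent.ClassicalGeometry.PSL2Basic.card_SL2 K]
    exact hd
  obtain ⟨x, hx⟩ := exists_prime_orderOf_dvd_card' p hd'
  have hxns : ∀ a : K, (x : Matrix (Fin 2) (Fin 2) K) ≠ a • 1 := by
    intro a ha
    have h3 := x.2
    rw [ha, Matrix.det_fin_two] at h3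
    simp at h3
    have h4 : a = 1 := by
      have h4 : (a - 1) * (a - 1) = 0 := by
        have := CharTwo.two_eq_zero (R := K)
        linear_combination h3 + (1 - a) * this
      have h5 := mul_self_eq_zero.1 h4
      linear_combination h5
    have h5 : x = 1 := Subtype.ext (by rw [ha, h4, one_smul]; rfl)
    rw [h5, orderOf_one] at hx
    exact hp.one_lt.ne hx
  have hpe : PE p 2 (S.h c c) := by
    rw [← hg]
    exact (Cfsg.Agent.H249.DP.pe_diag (IsPE.of_prime hx) hxns hl hl2 hgl).map _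
  have h6 := cent_five S (h_mem_five S c) (h_ne_one S hc)
  rw [Nat.card_eq_fintype_card (α := K)] at h6
  exact pw_of_four hm hK hpe h6

end

section

variable {K : Type} [Field K] [Fintype K] {m : ℕ}

/-- the case `p ∣ q² + 1` -/
theorem caseB (hm : 1 ≤ m) (hK : Fintype.card K = 2 ^ (2 * m + 1)) {p : ℕ} (hp : p.Prime)
    (hd : p ∣ Fintype.card K * Fintype.card K + 1) : PW p 36 ↥(twistedF4 K (2 ^ m)) := by
  have : Fact p.Prime := ⟨hp⟩
  obtain ⟨φ, hφ⟩ := exists_rln hK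
  have hch : CharP K 2 := Cfsg.Agent.ChevalleyStructure.TwF4.Twisted.charP_two hK
  have hfin : Finite ↥(twistedF4 K (2 ^ m)) := inferInstance
  have hF := exists_unit hm hK
  let S : Full φ ↥(twistedF4 K (2 ^ m)) := Inst.full hK hφ
  have hK' : Nat.card K = 2 ^ (2 * m + 1) := by rw [Nat.card_eq_fintype_card, hK]
  have h8 := q8 hm hK
  have hp2 : 2 < p := by
    rcases hp.eq_two_or_odd with h | h
    · exfalso
      rw [h] at hd
      have h1 : 2 ∣ Fintype.card K := by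
        rw [hK]
        exact dvd_pow_self 2 (by omega)
      have h2 : 2 ∣ Fintype.card K * Fintype.card K := h1.mul_right _
      omega
    · have := hp.two_le
      omega
  -- the torus element
  obtain ⟨t, ht, ht1⟩ : ∃ t ∈ S.Tk 4, t ≠ 1 := by
    obtain ⟨c, hc⟩ := hF
    have h1 := S.ck_Tk 2 (S.mem_Tk_zero.2 ⟨c, rfl⟩)
    refine ⟨_, by simpa using h1, fun h => ?_⟩
    have h2 := (MulEquiv.map_eq_one_iff _).1 h
    rw [← S.h_one] at h2
    exact hc (S.h_inj _ _ _ _ h2).2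
  have htL : t ∈ L4 S := Cfsg.Agent.CpAutTwF.Cent.Tk4_L4 S ht
  -- the Suzuki group
  have hI : Lie.IsoSuzuki ↥(L4 S) := by
    have h1 := Cfsg.Agent.H84.GaussTwF4.LL_iso S (k := 2 * m + 1) (by omega) hK'
    rw [Cfsg.Agent.H84.GaussTwF4.LJ_eq] at h1
    have h2 : H84.GaussTwF4.LL S = L4 S := sup_comm _ _
    rwa [h2] at h1
  obtain ⟨E, _, _, n, hn, hE, ⟨e⟩⟩ := hI
  have hdL : p ∣ Nat.card (L4 S) := by
    rw [Levi.card_L4 S hF, Nat.card_eq_fintype_card]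
    exact Dvd.dvd.mul_left hd _
  obtain ⟨x, hx⟩ := exists_prime_orderOf_dvd_card' p hdL
  have hxo : orderOf (e x) = p := by rw [MulEquiv.orderOf_eq, hx]
  obtain ⟨u, v, huv⟩ := Cfsg.Agent.S2457.result n hn hE (e x) (by rw [hxo]; exact hp2) (e ⟨t, htL⟩) (by
    intro h
    have h1 := (MulEquiv.map_eq_one_iff _).1 h
    exact ht1 (congrArg Subtype.val h1))
  have hpe : PE p 2 t := by
    have h1 : PE p 2 (e ⟨t, htL⟩) := by
      rw [huv]
      exact ((IsPE.of_prime hxo).pe.conj u).mul ((IsPE.of_prime hxo).pe.conj v)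
    have h2 := h1.map ((L4 S).subtype.comp e.symm.toMonoidHom)
    simpa using h2
  have h6 := cent_four S ht ht1
  rw [Nat.card_eq_fintype_card (α := K)] at h6
  exact pw_of_six hm hK hpe h6

/-- the other primes -/
theorem caseC (hm : 1 ≤ m) (hK : Fintype.card K = 2 ^ (2 * m + 1)) {p : ℕ} (hp : p.Prime)
    (hd : p ∣ Nat.card ↥(twistedF4 K (2 ^ m))) (hp2 : p ≠ 2)
    (h1 : ¬ p ∣ Fintype.card K - 1) (h2 : ¬ p ∣ 1 + Fintype.card K * Fintype.card K)
    (h3 : ¬ p ∣ 1 + Fintype.card K) : PW p 12 ↥(twistedF4 K (2 ^ m)) := by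
  have : Fact p.Prime := ⟨hp⟩
  obtain ⟨φ, hφ⟩ := exists_rln hK
  have hch : CharP K 2 := Cfsg.Agent.ChevalleyStructure.TwF4.Twisted.charP_two hK
  have hfin : Finite ↥(twistedF4 K (2 ^ m)) := inferInstance
  have hF := exists_unit hm hK
  obtain ⟨S, hS⟩ : ∃ S : Full φ ↥(twistedF4 K (2 ^ m)), S.R.p = 2 := ⟨Inst.full hK hφ, rfl⟩
  have hL : IsLieTypeChar 2 ↥(twistedF4 K (2 ^ m)) :=
    Or.inr (Or.inr (Or.inr (Or.inr (Or.inr (Or.inr (Or.inr (Or.inr (Or.inr (Or.inl ⟨rfl, K, _, _, m, hm, hK,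
      ⟨MulEquiv.refl _⟩⟩)))))))))
  obtain ⟨x, hx⟩ := exists_prime_orderOf_dvd_card' p hd
  have hc : Nat.card K = Fintype.card K := Nat.card_eq_fintype_card
  have hodd := Cfsg.Agent.H628.PQR.TwF.odd_cent S hF hS hp hp2 (by rwa [hc]) (by rwa [hc]) (by rwa [hc]) hx
  obtain ⟨c, hcne⟩ := hF
  have hto : ¬ 2 ∣ orderOf (S.h c c) := by
    have h4 : S.h c c ^ (Fintype.card K - 1) = 1 := by
      have key : ∀ n : ℕ, S.h c c ^ n = S.h (c ^ n) (c ^ n) := by
        intro n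
        induction n with
        | zero => rw [pow_zero, pow_zero, S.h_one]
        | succ n ih => rw [pow_succ, ih, S.h_mul, ← pow_succ]
      have h5 : c ^ (Fintype.card K - 1) = 1 := by
        apply Units.ext
        rw [Units.val_pow_eq_pow_val, Units.val_one]
        exact FiniteField.pow_card_sub_one_eq_one _ c.ne_zero
      rw [key, h5, S.h_one]
    intro h5
    have h6 : 2 ∣ Fintype.card K - 1 := h5.trans (orderOf_dvd_of_pow_eq_one h4)
    have h7 : 2 ∣ Fintype.card K := by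
      rw [hK]
      exact dvd_pow_self 2 (by omega)
    have h8 := q8 hm hK
    omega
  obtain ⟨g, h, hgh⟩ := Cfsg.Agent.H330.Gow.gow Nat.prime_two hL hodd hodd (h_ne_one S hcne) hto
  have hpe : PE p 2 (S.h c c) := by
    rw [← hgh]
    exact ((IsPE.of_prime hx).pe.conj g).mul ((IsPE.of_prime hx).pe.conj h)
  have h6 := cent_five S (h_mem_five S c) (h_ne_one S hcne)
  rw [Nat.card_eq_fintype_card (α := K)] at h6
  exact pw_of_four hm hK hpe h6

/-- **`²F₄(q)`, `q ≥ 8`.** -/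
theorem pw_twF4 (hm : 1 ≤ m) (hK : Fintype.card K = 2 ^ (2 * m + 1)) {p : ℕ} (hp : p.Prime)
    (hd : p ∣ Nat.card ↥(twistedF4 K (2 ^ m))) : PW p 70 ↥(twistedF4 K (2 ^ m)) := by
  have h8 := q8 hm hK
  by_cases hA : p ∣ Fintype.card K * (Fintype.card K ^ 2 - 1)
  · exact (caseA hm hK hp hA).mono (by norm_num)
  by_cases hB : p ∣ Fintype.card K * Fintype.card K + 1
  · exact (caseB hm hK hp hB).mono (by norm_num)
  have e : Fintype.card K ^ 2 - 1 = (1 + Fintype.card K) * (Fintype.card K - 1) := by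
    obtain ⟨r, hr⟩ : ∃ r, Fintype.card K = r + 1 := ⟨Fintype.card K - 1, by omega⟩
    rw [hr, Nat.add_sub_cancel]
    apply Nat.sub_eq_of_eq_add
    ring
  rw [e] at hA
  refine (caseC hm hK hp hd ?_ (fun h => hA ?_) (fun h => hB ?_) (fun h => hA ?_)).mono (by norm_num)
  · rintro rfl
    apply hA
    rw [hK]
    exact (dvd_pow_self 2 (by omega)).mul_right _
  · exact (h.mul_left _).mul_left _
  · rwa [add_comm]
  · exact (h.mul_right _).mul_left _

end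

/-- **the row `²F₄(q)`** -/
theorem pw_2f4 {S : Type u} [Group S] (h : Lie.Iso2F4 S) {p : ℕ} (hp : p.Prime) (hd : p ∣ Nat.card S) : PW p 70 S := by
  obtain ⟨K, _, _, m, hm, hK, ⟨e⟩⟩ := h
  rw [Nat.card_congr e.toEquiv] at hd
  exact (pw_twF4 hm hK hp hd).congr e.symm

end Cfsg.Agent.H346.DP.TwFRow
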