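import Mathlib
import Cfsg.Agent.H773.Pw.Assemble
import Cfsg.Agent.H813.PW.Math
import Cfsg.Agent.H486.Pw.Janko
import Cfsg.Agent.H269.Pw.HSMcL
import Cfsg.Agent.H173.Pw.He
import Cfsg.Agent.H521.Pw.Suz
import Cfsg.Agent.H521.Pw.RuFive
import Cfsg.Agent.H759.Pw.ON
import Cfsg.Agent.H541.PwCo
import Cfsg.Agent.H24.Pw.Co1
import Cfsg.Agent.H980.PwFi22
import Cfsg.Agent.H980.PwFi23
import Cfsg.Agent.H801.Pw.FiTF
import Cfsg.Agent.H315.PwHNTh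
import Cfsg.Agent.H621.PW.JFour
import Cfsg.Agent.H621.PW.LyMain
import Cfsg.Agent.H829.Pw.Baby
import Cfsg.Agent.H514.DP.PSL
import Cfsg.Agent.H16.DP.RowPSp
import Cfsg.Agent.H779.DP.Row
import Cfsg.Agent.H105.Og.Rows
import Cfsg.Agent.H120.DP.GTwo
import Cfsg.Agent.H120.DP.TwD4
import Cfsg.Agent.H346.DP.ERows
import Cfsg.Agent.H346.DP.F4Row
import Cfsg.Agent.H346.DP.TwFRow
import Cfsg.Agent.H169.DP.RowTwE6
import Cfsg.Agent.H623.DpSz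
import Cfsg.Agent.H623.DpRee
import Cfsg.Agent.H281.PW.Alt
import Cfsg.Agent.H249.DP.TitsMain
import Cfsg.Agent.H909.Pw.Mon

/-!
All rows of S2454.
-/

set_option autoImplicit false

namespace Cfsg.Agent.H346.DP.AllRows

open Cfsg Cfsg.Agent.H514.DP Cfsg.Agent.H773.Pw

universe u

theorem row_of_equiv {S : Type u} [Group S] {T : Type*} [Group T] (e : Nonempty (S ≃* T))
    (h : ∀ p : ℕ, p.Prime → p ∣ Nat.card T → PW p 70 T) : Row S := by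
  obtain ⟨e⟩ := e
  intro p hp hd
  rw [Nat.card_congr e.toEquiv] at hd
  exact (h p hp hd).congr e.symm

/-- **All rows.** -/
theorem rows : Rows.{u} where
  alt _ hn _ hp hd := H281.PWA.pw_alt hn hp hd
  psl _ _ _ _ _ h _ hp hd := H514.DP.pw_psl h hp hd
  psp _ _ _ _ _ h _ hp hd := H16.DP.pw_psp h hp hd
  psu _ _ _ _ _ h _ hp hd := H779.DP.pw_psu h hp hd
  odd _ _ _ _ _ h _ hp hd := H105.Og.pw_omegaOdd h hp hd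
  plus _ _ _ _ _ h _ hp hd := H105.Og.pw_omegaPlus h hp hd
  minus _ _ _ _ _ h _ hp hd := H105.Og.pw_omegaMinus h hp hd
  g2 _ _ _ _ _ _ _ h3 e _ hp hd := (H120.DP.GTwo.pw_g2 h3 e hp hd).mono (by norm_num)
  f4 _ _ _ _ _ _ _ e := row_of_equiv e fun _ hp hd => H346.DP.pw_F4 hp hd
  e6 _ _ _ _ _ _ _ e := row_of_equiv e fun _ hp hd => H346.DP.pw_E6 hp hd
  e7 _ _ _ _ _ _ _ e := row_of_equiv e fun _ hp hd => H346.DP.pw_E7 hp hd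
  e8 _ _ _ _ _ _ _ e := row_of_equiv e fun _ hp hd => H346.DP.pw_E8 hp hd
  tw_e6 _ _ _ _ _ _ _ _ hq hK e := row_of_equiv e fun _ hp hd => H169.DP.pw_twE6 hq hK hp hd
  tw_d4 _ _ _ _ _ _ _ _ hq hK e _ hp hd := (H120.DP.TwD4.pw_3d4 hq hK e hp hd).mono (by norm_num)
  sz _ _ _ _ h _ hp hd := (H623.DpSz.pw_sz h hp hd).mono (by norm_num)
  tw_f4 _ _ _ _ h _ hp hd := H346.DP.TwFRow.pw_2f4 h hp hd
  ree _ _ _ _ h _ hp hd := (H623.DpRee.pw_ree h hp hd).mono (by norm_num)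
  tits _ _ _ _ h _ hp hd := H249.DP.Tits.pw_tits h hp hd
  sp_M11 _ _ _ _ h _ hp hd := H813.PwMath.pw_M11 h hp hd
  sp_M12 _ _ _ _ h _ hp hd := H813.PwMath.pw_M12 h hp hd
  sp_M22 _ _ _ _ h _ hp hd := H813.PwMath.pw_M22 h hp hd
  sp_M23 _ _ _ _ h _ hp hd := H813.PwMath.pw_M23 h hp hd
  sp_M24 _ _ _ _ h _ hp hd := H813.PwMath.pw_M24 h hp hd
  sp_J1 _ _ _ _ h _ hp hd := H486.Pw.pw_j1 h hp hd
  sp_J2 _ _ _ _ h _ hp hd := H486.Pw.pw_j2 h hp hd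
  sp_J3 _ _ _ _ h _ hp hd := H486.Pw.pw_j3 h hp hd
  sp_J4 _ _ _ _ h _ hp hd := H621.PW.pw_j4 h hp hd
  sp_Co1 _ _ _ _ h _ hp hd := H24.Pw.Co1.pw_co1 h hp hd
  sp_Co2 _ _ _ _ h _ hp hd := H541.PwCo.pw_co2 h hp hd
  sp_Co3 _ _ _ _ h _ hp hd := H541.PwCo.pw_co3 h hp hd
  sp_McL _ _ _ _ h _ hp hd := H269.Pw.pw_McL h hp hd
  sp_HS _ _ _ _ h _ hp hd := H269.Pw.pw_HS h hp hd
  sp_Suz _ _ _ _ h _ hp hd := H521.Pw.pw_suz h hp hd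
  sp_He _ _ _ _ h _ hp hd := H173.Pw.pw_he h hp hd
  sp_Ru _ _ _ _ h _ hp hd := H521.Pw.pw_ru h hp hd
  sp_ON _ _ _ _ h _ hp hd := H759.Pw.ON.pw_on h hp hd
  sp_Ly _ _ _ _ h _ hp hd := H621.PW.pw_ly h hp hd
  sp_Fi22 _ _ _ _ h _ hp hd := H980.PwFi22.pw_fi22 h hp hd
  sp_Fi23 _ _ _ _ h _ hp hd := H980.PwFi23.pw_fi23 h hp hd
  sp_Fi24p _ _ _ _ h _ hp hd := H801.Pw.FiTF.pw_fi24 h hp hd
  sp_HN _ _ _ _ h _ hp hd := H315.PwHNTh.pw_hn h hp hd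
  sp_Th _ _ _ _ h _ hp hd := H315.PwHNTh.pw_th h hp hd
  sp_B _ _ _ _ h _ hp hd := H829.Pw.pw_b h hp hd
  sp_M _ _ _ _ h _ hp hd := H909.Pw.pw_m h hp hd

end Cfsg.Agent.H346.DP.AllRows
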